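import Cfsg.Agent.H45.CosetCheck

/-!
Soundness of coset-table certificates: the upper bound on the number of cosets.
-/

set_option autoImplicit false

namespace Cfsg.Agent.H45

variable {G : Type*} [Group G]

/-- value of a word -/
def evalW (e : ℕ → G) (w : List ℕ) : G := (w.map e).prod

theorem evalW_nil (e : ℕ → G) : evalW e [] = 1 := rfl

theorem evalW_cons (e : ℕ → G) (x : ℕ) (w : List ℕ) : evalW e (x :: w) = e x * evalW e w := by
  simp [evalW]

theorem evalW_append (e : ℕ → G) (u v : List ℕ) : evalW e (u ++ v) = evalW e u * evalW e v := by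
  simp [evalW]

/-- the hypotheses on the evaluation of the fixed data -/
structure Hyp (D : Dat) (e : ℕ → G) (H : Subgroup G) : Prop where
  invl : ∀ l, e (linv D.iv l) = (e l)⁻¹
  rel : ∀ w ∈ D.R, evalW e w = 1
  sub : ∀ w ∈ D.S, evalW e w ∈ H

variable {D : Dat} {e : ℕ → G} {H : Subgroup G}

theorem evalW_winv (hD : Hyp D e H) : ∀ w : List ℕ, evalW e (winv D.iv w) = (evalW e w)⁻¹ := by
  intro w
  induction w with
  | nil => simp [winv, evalW]
  | cons x w ih =>
    have h : winv D.iv (x :: w) = winv D.iv w ++ [linv D.iv x] := by simp [winv]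
    rw [h, evalW_append, ih, evalW_cons, evalW_nil, mul_one, evalW_cons, mul_inv_rev, hD.invl]

theorem evalW_getD_R (hD : Hyp D e H) (r : ℕ) : evalW e (D.R.getD r []) = 1 := by
  rw [List.getD_eq_getElem?_getD]
  cases h : D.R[r]? with
  | none => simp [evalW]
  | some w => simpa using hD.rel w (List.mem_of_getElem? h)

theorem evalW_getD_S (hD : Hyp D e H) (r : ℕ) : evalW e (D.S.getD r []) ∈ H := by
  rw [List.getD_eq_getElem?_getD]
  cases h : D.S[r]? with
  | none => simp [evalW]
  | some w => simpa using hD.sub w (List.mem_of_getElem? h)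

/-- semantics of an edge -/
def ERel (D : Dat) (e : ℕ → G) (H : Subgroup G) (w : ℕ → G) (i l : ℕ) : Prop :=
  w i * e l * (w (tget D.cols i l))⁻¹ ∈ H

/-- the invariant of the set of known edges -/
def KInv (D : Dat) (e : ℕ → G) (H : Subgroup G) (w : ℕ → G) (K : ℕ) : Prop :=
  ∀ i l, l < D.L → egt K (i * D.L + l) = true → ERel D e H w i l

theorem bget_eq (K e : ℕ) : bget K e = K.testBit e := by
  unfold bget
  have h : (K >>> e) &&& 1 = (K.testBit e).toNat := by
    rw [Nat.and_one_is_mod, Nat.shiftRight_eq_div_pow, Nat.toNat_testBit]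
  rw [h]; cases K.testBit e <;> rfl

theorem bget_set (K e x : ℕ) :
    bget (K ||| (1 <<< e)) x = (bget K x || decide (e = x)) := by
  rw [bget_eq, bget_eq, Nat.testBit_or, Nat.one_shiftLeft, Nat.testBit_two_pow]

theorem egt_set (K a b r x : ℕ) :
    egt ((K ||| (1 <<< (a + 64)) ||| (1 <<< (b + 64))) ^^^ (r % 18446744073709551616)) x =
      ((egt K x || decide (a = x)) || decide (b = x)) := by
  have hr : (r % 18446744073709551616).testBit (x + 64) = false :=
    Nat.testBit_eq_false_of_lt (lt_of_lt_of_le (Nat.mod_lt _ (by norm_num))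
      (le_trans (by norm_num) (Nat.pow_le_pow_right two_pos (Nat.le_add_left 64 x))))
  unfold egt
  rw [bget_eq, Nat.testBit_xor, hr, Bool.xor_false, ← bget_eq, bget_set, bget_set]
  simp

theorem mul_add_unique {L i l i' l' : ℕ} (hl : l < L) (hl' : l' < L)
    (h : i * L + l = i' * L + l') : i = i' ∧ l = l' := by
  have h1 : (i * L + l) / L = i := by
    rw [Nat.mul_comm i L, Nat.mul_add_div (by omega), Nat.div_eq_of_lt hl, Nat.add_zero]
  have h2 : (i' * L + l') / L = i' := by
    rw [Nat.mul_comm i' L, Nat.mul_add_div (by omega), Nat.div_eq_of_lt hl', Nat.add_zero]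
  rw [h, h2] at h1
  subst h1
  exact ⟨rfl, by omega⟩

theorem blt_iff {a b : ℕ} : Nat.blt a b = true ↔ a < b := by simp [Nat.blt_eq]

theorem setEdge_sound (hD : Hyp D e H) {K i l : ℕ} {k : ℕ → Bool} (h : setEdge D K i l k = true) :
    ∃ K', k K' = true ∧ l < D.L ∧
      (∀ x y, y < D.L → egt K' (x * D.L + y) = true →
        egt K (x * D.L + y) = true ∨ (x = i ∧ y = l) ∨ (x = tget D.cols i l ∧ y = linv D.iv l)) ∧
      (∀ w, ERel D e H w i l → KInv D e H w K → KInv D e H w K') := by
  unfold setEdge at h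
  simp only [force_eq, Bool.and_eq_true, blt_iff, Nat.beq_eq] at h
  obtain ⟨⟨⟨hl, hl'⟩, hback⟩, hk⟩ := h
  refine ⟨_, hk, hl, ?_, ?_⟩
  · intro x y hy hb
    simp only [egt_set, Bool.or_eq_true, decide_eq_true_eq] at hb
    rcases hb with (hb | hb) | hb
    · exact Or.inl hb
    · exact Or.inr (Or.inl (by have := mul_add_unique hl hy hb; exact ⟨this.1.symm, this.2.symm⟩))
    · exact Or.inr (Or.inr (by have := mul_add_unique hl' hy hb; exact ⟨this.1.symm, this.2.symm⟩))
  · intro w hil hK x y hy hb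
    simp only [egt_set, Bool.or_eq_true, decide_eq_true_eq] at hb
    rcases hb with (hb | hb) | hb
    · exact hK x y hy hb
    · obtain ⟨rfl, rfl⟩ := mul_add_unique hl hy hb; exact hil
    · obtain ⟨rfl, rfl⟩ := mul_add_unique hl' hy hb
      unfold ERel at *
      rw [hback, hD.invl]
      have := H.inv_mem hil
      simpa [mul_assoc] using this

theorem walkK_sound {K : ℕ} {w : ℕ → G} (hK : KInv D e H w K) :
    ∀ (u : List ℕ) (p : ℕ) (k : ℕ → Bool), walkK D K u p k = true →
      ∃ q, k q = true ∧ w p * evalW e u * (w q)⁻¹ ∈ H := by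
  intro u
  induction u with
  | nil => intro p k h; exact ⟨p, h, by simp [evalW]⟩
  | cons m u ih =>
    intro p k h
    simp only [walkK, force_eq, Bool.and_eq_true, blt_iff] at h
    obtain ⟨⟨hm, hb⟩, h'⟩ := h
    obtain ⟨q, hq, hmem⟩ := ih _ _ h'
    refine ⟨q, hq, ?_⟩
    have := H.mul_mem (hK p m hm hb) hmem
    simpa [evalW_cons, mul_assoc] using this

theorem getD_split (u : List ℕ) (pos : ℕ) (h : pos < u.length) :
    u = u.take pos ++ u.getD pos 0 :: u.drop (pos + 1) := by
  rw [List.getD_eq_getElem _ _ h, ← List.drop_eq_getElem_cons h, List.take_append_drop]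

theorem gapWord_sound (hD : Hyp D e H) {K i pos : ℕ} {u : List ℕ} {w : ℕ → G} {k : ℕ → Bool}
    (hK : KInv D e H w K) (hu : w i * evalW e u * (w i)⁻¹ ∈ H)
    (h : gapWord D K i u pos k = true) : ∃ K', k K' = true ∧ KInv D e H w K' := by
  unfold gapWord at h
  simp only [Bool.and_eq_true, blt_iff] at h
  obtain ⟨hpos, h'⟩ := h
  obtain ⟨p, hp, hA⟩ := walkK_sound hK _ _ _ h'
  simp only [force_eq] at hp
  obtain ⟨z, hz, hB⟩ := walkK_sound hK _ _ _ hp
  simp only [Bool.and_eq_true, Nat.beq_eq] at hz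
  obtain ⟨rfl, hset⟩ := hz
  obtain ⟨K', hk, -, -, hinv⟩ := setEdge_sound hD hset
  refine ⟨K', hk, hinv w ?_ hK⟩
  have h3 := H.mul_mem (H.mul_mem (H.inv_mem hA) hu) (H.inv_mem hB)
  rw [getD_split u pos hpos, evalW_append, evalW_cons] at h3
  unfold ERel
  convert h3 using 1
  rw [← getD_split u pos hpos]
  group

theorem gapStep_sound (hD : Hyp D e H) {K v : ℕ} {w : ℕ → G} {k : ℕ → Bool} (hw0 : w 0 = 1)
    (hK : KInv D e H w K) (h : gapStep D K v k = true) :
    ∃ K', k K' = true ∧ KInv D e H w K' := by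
  unfold gapStep at h
  simp only [force_eq] at h
  cases hb : Nat.blt ((v >>> 10) &&& 1023) D.R.length
  · simp only [hb, cond_false, Bool.and_eq_true, Nat.beq_eq] at h
    refine gapWord_sound hD hK ?_ h.2
    simpa [hw0] using evalW_getD_S hD _
  · simp only [hb, cond_true] at h
    refine gapWord_sound hD hK ?_ h
    rw [evalW_getD_R hD]
    simp

theorem gapChunk_sound (hD : Hyp D e H) {w : ℕ → G} (hw0 : w 0 = 1) :
    ∀ (fuel c K : ℕ) (k : ℕ → Bool), KInv D e H w K → gapChunk D fuel c K k = true →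
      ∃ K', k K' = true ∧ KInv D e H w K' := by
  intro fuel
  induction fuel with
  | zero => intro c K k _ h; simp [gapChunk] at h
  | succ fuel ih =>
    intro c K k hK h
    unfold gapChunk at h
    cases hb : Nat.beq c 0
    · simp only [hb, cond_false] at h
      obtain ⟨K', hk, hK'⟩ := gapStep_sound hD hw0 hK h
      simp only [force_eq] at hk
      exact ih _ _ _ hK' hk
    · simp only [hb, cond_true] at h
      exact ⟨K, h, hK⟩

theorem push1_sound (hD : Hyp D e H) {x : ℕ} {stk : List ℕ} {k : List ℕ → Bool}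
    (h : push1 D.iv x stk k = true) :
    ∃ stk', k stk' = true ∧ evalW e stk'.reverse = evalW e stk.reverse * e x := by
  cases stk with
  | nil => exact ⟨[x], h, by simp [evalW]⟩
  | cons a t =>
    unfold push1 at h
    cases hb : Nat.beq (linv D.iv a) x
    · simp only [hb, cond_false] at h
      exact ⟨x :: a :: t, h, by simp [evalW, mul_assoc]⟩
    · simp only [hb, cond_true] at h
      refine ⟨t, h, ?_⟩
      rw [← Nat.eq_of_beq_eq_true hb, hD.invl]
      simp [evalW]

theorem pushN_sound (hD : Hyp D e H) :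
    ∀ (n : ℕ) (rest stk : List ℕ) (k : List ℕ → List ℕ → Bool),
      pushN D.iv n rest stk k = true → ∃ rest' stk', k rest' stk' = true ∧
        evalW e stk'.reverse * evalW e rest' = evalW e stk.reverse * evalW e rest := by
  intro n
  induction n with
  | zero => intro rest stk k h; exact ⟨rest, stk, by simpa [pushN] using h, rfl⟩
  | succ n ih =>
    intro rest stk k h
    cases rest with
    | nil => simp [pushN] at h
    | cons x rest =>
      simp only [pushN] at h
      obtain ⟨s1, h1, e1⟩ := push1_sound hD h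
      obtain ⟨r2, s2, h2, e2⟩ := ih _ _ _ h1
      refine ⟨r2, s2, h2, ?_⟩
      rw [e2, e1, evalW_cons]; group

theorem pushAll_sound (hD : Hyp D e H) :
    ∀ (rest stk : List ℕ) (k : List ℕ → Bool), pushAll D.iv rest stk k = true →
      ∃ stk', k stk' = true ∧ evalW e stk'.reverse = evalW e stk.reverse * evalW e rest := by
  intro rest
  induction rest with
  | nil => intro stk k h; exact ⟨stk, by simpa [pushAll] using h, by simp [evalW_nil]⟩
  | cons x rest ih =>
    intro stk k h
    simp only [pushAll] at h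
    obtain ⟨s1, h1, e1⟩ := push1_sound hD h
    obtain ⟨s2, h2, e2⟩ := ih _ _ h1
    refine ⟨s2, h2, ?_⟩
    rw [e2, e1, evalW_cons]; group

theorem revOnto_eq : ∀ l acc : List ℕ, revOnto l acc = l.reverse ++ acc := by
  intro l
  induction l with
  | nil => intro acc; simp [revOnto]
  | cons x l ih => intro acc; simp [revOnto, ih]

theorem evalW_opLoop (hD : Hyp D e H) (r kk : ℕ) : evalW e (opLoop D r kk) = 1 := by
  have hrot : ∀ u : List ℕ, ∀ k, evalW e u = 1 → evalW e (u.drop k ++ u.take k) = 1 := by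
    intro u k hu
    rw [← List.take_append_drop k u, evalW_append] at hu
    rw [evalW_append, eq_inv_of_mul_eq_one_left hu]
    group
  unfold opLoop
  cases h1 : Nat.blt r D.R.length <;> simp only [cond_false, cond_true]
  · cases h2 : Nat.blt (r - D.R.length) D.L <;> simp [evalW, hD.invl]
  · have h := hrot _ (kk >>> 1) (evalW_getD_R hD r)
    cases h2 : Nat.beq (kk &&& 1) 1 <;> simp only [cond_false, cond_true]
    · exact h
    · rw [evalW_winv hD, h, inv_one]

theorem insOps_sound (hD : Hyp D e H) :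
    ∀ (ops rest stk : List ℕ) (k : List ℕ → Bool), insOps D ops rest stk k = true →
      ∃ stk', k stk' = true ∧ evalW e stk'.reverse = evalW e stk.reverse * evalW e rest := by
  intro ops
  induction ops with
  | nil => intro rest stk k h; exact pushAll_sound hD _ _ _ h
  | cons v ops ih =>
    intro rest stk k h
    simp only [insOps, force_eq] at h
    obtain ⟨r1, s1, h1, e1⟩ := pushN_sound hD _ _ _ _ h
    obtain ⟨s2, h2, e2⟩ := ih _ _ _ h1
    refine ⟨s2, h2, ?_⟩
    rw [e2, revOnto_eq, List.reverse_reverse, evalW_append, evalW_opLoop hD, one_mul, e1]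

theorem insStep_sound (hD : Hyp D e H) {K i l : ℕ} {ops : List ℕ} {w : ℕ → G} {k : ℕ → Bool}
    (hK : KInv D e H w K) (h : insStep D K i l ops k = true) :
    ∃ K', k K' = true ∧ KInv D e H w K' := by
  unfold insStep at h
  obtain ⟨stk, h1, e1⟩ := insOps_sound hD _ _ _ _ h
  obtain ⟨z, hz, hmem⟩ := walkK_sound hK _ _ _ h1
  simp only [Bool.and_eq_true, Nat.beq_eq] at hz
  obtain ⟨K', hk, -, -, hinv⟩ := setEdge_sound hD hz.2
  refine ⟨K', hk, hinv w ?_ hK⟩
  rw [revOnto_eq, List.append_nil, e1, hz.1] at hmem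
  simpa [ERel, evalW] using hmem

theorem runBlks_sound (hD : Hyp D e H) {w : ℕ → G} (hw0 : w 0 = 1) :
    ∀ (bs : List Blk) (K : ℕ) (k : ℕ → Bool), KInv D e H w K → runBlks D bs K k = true →
      ∃ K', k K' = true ∧ KInv D e H w K' := by
  intro bs
  induction bs with
  | nil => intro K k hK h; exact ⟨K, h, hK⟩
  | cons b bs ih =>
    intro K k hK h
    cases b with
    | gaps c =>
      simp only [runBlks] at h
      obtain ⟨K', h', hK'⟩ := gapChunk_sound hD hw0 _ _ _ _ hK h
      exact ih _ _ hK' h'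
    | ins i l ops =>
      simp only [runBlks] at h
      obtain ⟨K', h', hK'⟩ := insStep_sound hD hK h
      exact ih _ _ hK' h'

/-- the invariant while the tree is built -/
def TInv (D : Dat) (e : ℕ → G) (H : Subgroup G) (E : Subgroup G) (K j : ℕ) : Prop :=
  0 < j ∧ (∀ x y, y < D.L → egt K (x * D.L + y) = true → x < j ∧ tget D.cols x y < j) ∧
    (∀ x, 0 < x → x < j → ∃ p l, p < x ∧ l < D.L ∧ tget D.cols p l = x) ∧
    ∃ w : ℕ → G, w 0 = 1 ∧ (∀ x, w x ∈ E) ∧ KInv D e H w K

theorem treeEdge_sound (hD : Hyp D e H) {E : Subgroup G} (hE : ∀ l, l < D.L → e l ∈ E)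
    {K j v : ℕ} {k : ℕ → Bool} (hK : TInv D e H E K j) (h : treeEdge D K j v k = true) :
    ∃ K', k K' = true ∧ TInv D e H E K' (j + 1) := by
  unfold treeEdge at h
  simp only [force_eq, Bool.and_eq_true, blt_iff, Nat.beq_eq] at h
  obtain ⟨⟨hpj, hj⟩, hset⟩ := h
  obtain ⟨hj0, hbd, htr, w, hw0, hwE, hKw⟩ := hK
  obtain ⟨K', hk, hl, hsub, hinv⟩ := setEdge_sound hD hset
  have hback : tget D.cols j (linv D.iv (v &&& 255)) = v >>> 8 := by
    unfold setEdge at hset
    simp only [force_eq, Bool.and_eq_true, blt_iff, Nat.beq_eq, hj] at hset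
    exact hset.1.2
  refine ⟨K', hk, by omega, ?_, ?_,
    Function.update w j (w (v >>> 8) * e (v &&& 255)), ?_, ?_, ?_⟩
  · intro x y hy hb
    rcases hsub x y hy hb with hb | ⟨rfl, rfl⟩ | ⟨rfl, rfl⟩
    · have := hbd x y hy hb; omega
    · omega
    · rw [hj, hback]; omega
  · intro x hx0 hx
    rcases Nat.lt_succ_iff_lt_or_eq.mp hx with hx | rfl
    · exact htr x hx0 hx
    · exact ⟨_, _, hpj, hl, hj⟩
  · rw [Function.update_of_ne (by omega), hw0]
  · intro x
    rcases eq_or_ne x j with rfl | hx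
    · rw [Function.update_self]; exact E.mul_mem (hwE _) (hE _ hl)
    · rw [Function.update_of_ne hx]; exact hwE x
  · refine hinv _ ?_ ?_
    · unfold ERel
      rw [hj, Function.update_self, Function.update_of_ne (by omega)]
      simp
    · intro x y hy hb
      have hxy := hbd x y hy hb
      unfold ERel
      rw [Function.update_of_ne (by omega), Function.update_of_ne (by omega)]
      exact hKw x y hy hb

theorem treeChunk_sound (hD : Hyp D e H) {E : Subgroup G} (hE : ∀ l, l < D.L → e l ∈ E) :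
    ∀ (fuel c K j : ℕ) (k : ℕ → ℕ → Bool), TInv D e H E K j →
      treeChunk D fuel c K j k = true → ∃ K' j', k K' j' = true ∧ TInv D e H E K' j' := by
  intro fuel
  induction fuel with
  | zero => intro c K j k _ h; simp [treeChunk] at h
  | succ fuel ih =>
    intro c K j k hK h
    unfold treeChunk at h
    cases hb : Nat.beq c 0
    · simp only [hb, cond_false] at h
      obtain ⟨K', hk, hK'⟩ := treeEdge_sound hD hE hK h
      simp only [force_eq] at hk
      exact ih _ _ _ _ hK' hk
    · simp only [hb, cond_true] at h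
      exact ⟨K, j, h, hK⟩

theorem treeAll_sound (hD : Hyp D e H) {E : Subgroup G} (hE : ∀ l, l < D.L → e l ∈ E) :
    ∀ (cs : List ℕ) (K j : ℕ) (k : ℕ → ℕ → Bool), TInv D e H E K j →
      treeAll D cs K j k = true → ∃ K' j', k K' j' = true ∧ TInv D e H E K' j' := by
  intro cs
  induction cs with
  | nil => intro K j k hK h; exact ⟨K, j, h, hK⟩
  | cons c cs ih =>
    intro K j k hK h
    simp only [treeAll] at h
    obtain ⟨K', j', h', hK'⟩ := treeChunk_sound hD hE _ _ _ _ _ hK h
    exact ih _ _ _ hK' h'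

/-- A checked certificate gives coset representatives, closed under all generators. -/
theorem closeCheck_sound (hD : Hyp D e H) {E : Subgroup G} (hE : ∀ l, l < D.L → e l ∈ E)
    {n : ℕ} {tree : List ℕ} {bs : List Blk} (h : closeCheck D n tree bs = true) :
    (∀ x, 0 < x → x < n → ∃ p l, p < x ∧ l < D.L ∧ tget D.cols p l = x) ∧
    ∃ w : ℕ → G, w 0 = 1 ∧ (∀ x, w x ∈ E) ∧
      ∀ i, i < n → ∀ l, l < D.L → w i * e l * (w (tget D.cols i l))⁻¹ ∈ H := by
  unfold closeCheck at h
  have h0 : TInv D e H E 0 1 := by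
    refine ⟨one_pos, ?_, fun x h1 h2 => by omega, fun _ => 1, rfl, fun _ => E.one_mem, ?_⟩ <;>
      · intro x y _ hb
        simp [egt, bget_eq] at hb
  obtain ⟨K, j, hk, -, -, htr, w, hw0, hwE, hK⟩ := treeAll_sound hD hE _ _ _ _ h0 h
  simp only [Bool.and_eq_true, Nat.beq_eq] at hk
  obtain ⟨K', hK', hI⟩ := runBlks_sound hD hw0 _ _ _ hK hk.2
  simp only [Nat.beq_eq] at hK'
  refine ⟨hk.1 ▸ htr, w, hw0, hwE, fun i hi l hl => hI i l hl ?_⟩
  rw [egt, bget_eq, Nat.add_comm, ← Nat.testBit_shiftRight, hK', Nat.testBit_two_pow_sub_one,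
    decide_eq_true_eq]
  calc i * D.L + l < i * D.L + D.L := by omega
    _ = (i + 1) * D.L := by ring
    _ ≤ n * D.L := Nat.mul_le_mul_right _ hi

/-- one segment of a certificate: it takes the set `K` of known edges to `K'` -/
noncomputable def segCheck (D : Dat) (bs : List Blk) (K K' : ℕ) : Bool :=
  runBlks D bs K fun X => Nat.beq X K'

/-- segments of a certificate, each recorded with the set it reaches -/
def SegsOK (D : Dat) : ℕ → List (List Blk × ℕ) → ℕ → Prop
  | K, [], K' => K = K'
  | K, (bs, X) :: rest, K' => segCheck D bs K X = true ∧ SegsOK D X rest K'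

theorem SegsOK_sound (hD : Hyp D e H) {w : ℕ → G} (hw0 : w 0 = 1) :
    ∀ (segs : List (List Blk × ℕ)) (K K' : ℕ), KInv D e H w K → SegsOK D K segs K' →
      KInv D e H w K' := by
  intro segs
  induction segs with
  | nil => intro K K' hK h; exact (show K = K' from h) ▸ hK
  | cons x rest ih =>
    obtain ⟨bs, X⟩ := x
    intro K K' hK h
    obtain ⟨Y, hY, hI⟩ := runBlks_sound hD hw0 _ _ _ hK h.1
    exact ih X K' ((Nat.eq_of_beq_eq_true hY) ▸ hI) h.2

/-- A certificate checked in segments gives coset representatives. -/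
theorem closeSegs_sound (hD : Hyp D e H) {E : Subgroup G} (hE : ∀ l, l < D.L → e l ∈ E)
    {n K0 K1 : ℕ} {tree : List ℕ} {segs : List (List Blk × ℕ)}
    (htree : treeAll D tree 0 1 (fun K j => Nat.beq j n && Nat.beq K K0) = true)
    (hsegs : SegsOK D K0 segs K1) (hfull : Nat.beq (K1 >>> 64) (2 ^ (n * D.L) - 1) = true) :
    ∃ w : ℕ → G, w 0 = 1 ∧ (∀ x, w x ∈ E) ∧
      ∀ i, i < n → ∀ l, l < D.L → w i * e l * (w (tget D.cols i l))⁻¹ ∈ H := by
  have h0 : TInv D e H E 0 1 := by
    refine ⟨one_pos, ?_, fun x h1 h2 => by omega, fun _ => 1, rfl, fun _ => E.one_mem, ?_⟩ <;>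
      · intro x y _ hb
        simp [egt, bget_eq] at hb
  obtain ⟨K, j, hk, -, -, -, w, hw0, hwE, hK⟩ := treeAll_sound hD hE _ _ _ _ h0 htree
  simp only [Bool.and_eq_true, Nat.beq_eq] at hk
  obtain ⟨-, rfl⟩ := hk
  have hI := SegsOK_sound hD hw0 segs _ _ hK hsegs
  refine ⟨w, hw0, hwE, fun i hi l hl => hI i l hl ?_⟩
  rw [egt, bget_eq, Nat.add_comm, ← Nat.testBit_shiftRight, Nat.eq_of_beq_eq_true hfull,
    Nat.testBit_two_pow_sub_one, decide_eq_true_eq]
  calc i * D.L + l < i * D.L + D.L := by omega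
    _ = (i + 1) * D.L := by ring
    _ ≤ n * D.L := Nat.mul_le_mul_right _ hi

end Cfsg.Agent.H45
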