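import Cfsg.Agent.H45.Fi22Main
import Cfsg.Agent.H45.Fi22Extra

/-!
The presented group `Fi₂₂`: order, suborbits and simplicity.
-/

set_option autoImplicit false

namespace Cfsg.Agent.H45.Fi22Top

open Cfsg.Spor Fi22Main

theorem order_facts : Finite Fi22Pres.pres.Gp ∧ Nat.card Fi22Pres.pres.Gp = 64561751654400 ∧
    ∃ φ : Fi22Pres.pres.Gp →* Equiv.Perm (Fin 3510),
      Act (permCheck_PT perm_ok) Fi22Pres.pres.e φ ∧ Function.Injective φ ∧
      ∃ F : Fi22Pres.pres.Gp ⧸ H ≃ Fin 3510, F (QuotientGroup.mk (1 : Fi22Pres.pres.Gp)) = 0 ∧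
        ∀ g : Fi22Pres.pres.Gp, ∀ x : Fi22Pres.pres.Gp ⧸ H, F (g • x) = φ g (F x) := by
  obtain ⟨φ, hA, hF⟩ := index_facts
  have := bound_all.1
  obtain ⟨hc, hinj⟩ := card_eq_of_chain hA bound_all.2 (by rw [rl]; exact Fi22Extra.chain_ok)
    Fi22Extra.chain_prod
  exact ⟨this, hc, φ, hA, hinj, hF⟩

theorem suborbits : ∃ q₁ q₂ : Fi22Pres.pres.Gp ⧸ H,
    (MulAction.orbit H q₁).ncard = 693 ∧ (MulAction.orbit H q₂).ncard = 2816 := by
  obtain ⟨φ, hA, F, -, hF⟩ := index_facts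
  obtain ⟨q₁, -, h1⟩ := orbit_ncard hA subWords_lt F hF Fi22Extra.orb693_ok
  obtain ⟨q₂, -, h2⟩ := orbit_ncard hA subWords_lt F hF Fi22Extra.orb2816_ok
  exact ⟨q₁, q₂, h1, h2⟩

theorem isSimple : IsSimpleGroup Fi22Pres.pres.Gp := by
  obtain ⟨hfin, hcard, φ, hA, hinj, F, -, hF⟩ := order_facts
  have : Nontrivial Fi22Pres.pres.Gp := by
    rw [← Finite.one_lt_card_iff_nontrivial, hcard]; norm_num
  refine ⟨fun N hN => or_iff_not_imp_left.mpr fun hne => ?_⟩
  have hcop : Nat.Coprime 13 N.index :=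
    normal_index_coprime (k := 1) (by norm_num) (by norm_num) φ hinj
      (transitive_of_equiv F hF _) H
      (fun h hh => fixZero_sound hA (by norm_num) (by rw [rl]; exact Fi22I3510.fix_ok) le_rfl hh)
      (fun B h0 hB hd => prim_of_part hA (by norm_num) subWords_lt Fi22Extra.parts_ok
        (by decide +kernel) B h0 hB hd) (by norm_num) (by rw [hcard]; norm_num) N hne
  have hw : ∀ w ∈ Fi22Extra.wordChecks, evalW Fi22Pres.pres.e w = 1 := fun w hw =>
    evalW_eq_one hA hinj (by rw [rl]; exact (List.all_eq_true.mp Fi22Extra.wordChecks_ok) w hw)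
  simp only [Fi22Extra.wordChecks, List.forall_mem_cons, evalW_pow, evalW_append] at hw
  obtain ⟨w1, w2, w3, -⟩ := hw
  have hgen : ∀ l, Fi22Pres.pres.e l * Fi22Pres.pres.e l = 1 := fun l => by
    conv_lhs => arg 1; rw [show Fi22Pres.pres.e l = (Fi22Pres.pres.e l)⁻¹ from eOf_inv Fi22Pres.ok.sq l]
    exact inv_mul_cancel _
  have ha : Fi22Pres.pres.e 0 ∈ N := by
    have h1 := N.mul_mem (pow_elem_mem hcop w1) (pow_elem_mem hcop w2)
    rw [eq_inv_of_mul_eq_one_left w3] at h1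
    simpa [evalW] using h1
  have hedge : ∀ i j, (List.replicate 3 [i, j]).flatten ∈ Fi22Pres.pres.R ∨
      (List.replicate 3 [j, i]).flatten ∈ Fi22Pres.pres.R → Fi22Pres.pres.e i ∈ N →
      Fi22Pres.pres.e j ∈ N := by
    intro i j hw hi
    refine mem_of_odd_edge (m := 3) (by decide) ?_ (hgen j) hi
    rcases hw with hw | hw
    · rw [← evalW_replicate]; exact Fi22Pres.ok.rel _ hw
    · apply pow_swap_eq_one
      rw [← evalW_replicate]; exact Fi22Pres.ok.rel _ hw
  have hb := hedge 0 1 (by decide +kernel) ha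
  have hc := hedge 1 2 (by decide +kernel) hb
  have hd := hedge 2 3 (by decide +kernel) hc
  have he := hedge 3 4 (by decide +kernel) hd
  have hf := hedge 4 5 (by decide +kernel) he
  have hg := hedge 5 6 (by decide +kernel) hf
  have hh := hedge 3 7 (by decide +kernel) hd
  have hi := hedge 7 8 (by decide +kernel) hh
  rw [eq_top_iff, ← Fi22Pres.ok.gen, Subgroup.closure_le]
  rintro _ ⟨l, hl, rfl⟩
  rw [rl] at hl
  interval_cases l <;> assumption

theorem H'_index : H'.index = 14080 := by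
  obtain ⟨hfin, hcard, -⟩ := order_facts
  obtain ⟨w, hw⟩ := H'_cosets
  obtain ⟨-, hle⟩ := sub_bcdefghi
  have hup : H'.index ≤ 14080 := by
    rw [Subgroup.index, ← Nat.card_fin 14080]
    refine Nat.card_le_card_of_surjective
      (fun i : Fin 14080 => (QuotientGroup.mk (w i)⁻¹ : Fi22Pres.pres.Gp ⧸ H')) ?_
    intro x
    obtain ⟨g, rfl⟩ := QuotientGroup.mk_surjective x
    obtain ⟨i, hi, hmem⟩ := hw g⁻¹
    refine ⟨⟨i, hi⟩, QuotientGroup.eq.mpr ?_⟩
    have := H'.inv_mem hmem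
    simpa [mul_inv_rev] using this
  have hmul := H'.card_mul_index
  rw [hcard] at hmul
  refine le_antisymm hup ?_
  by_contra hlt
  have : Nat.card H' * H'.index ≤ 4585351680 * 14079 := Nat.mul_le_mul hle (by omega)
  omega

end Cfsg.Agent.H45.Fi22Top
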