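import Cfsg.Agent.H45.CosetPres

/-!
Group-level consequences of certificates: index, suborbits, order, simplicity.
-/

set_option autoImplicit false

namespace Cfsg.Agent.H45

open scoped Pointwise

variable {Gen : Type} [DecidableEq Gen] {P : Pres Gen}

/-- subgroup generated by some letters -/
def Pres.sub (P : Pres Gen) (ls : List ℕ) : Subgroup P.Gp :=
  Subgroup.closure {g | ∃ l ∈ ls, P.e l = g}

/-- subgroup generated by some words -/
def Pres.wsub (P : Pres Gen) (S : List (List ℕ)) : Subgroup P.Gp :=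
  Subgroup.closure {g | ∃ w ∈ S, evalW P.e w = g}

theorem Pres.sub_nil : P.sub [] = ⊥ := by
  simp [Pres.sub]

theorem Pres.OK.sub_range (h : P.OK) : P.sub (List.range P.gl.length) = ⊤ := by
  rw [← h.gen]; unfold Pres.sub
  simp [List.mem_range]

theorem evalW_map {G : Type*} [Group G] (e : ℕ → G) (σ : ℕ → ℕ) (w : List ℕ) :
    evalW e (w.map σ) = evalW (fun l => e (σ l)) w := by
  simp [evalW, List.map_map, Function.comp_def]

/-- one step of an order bound: a closed table over a smaller subgroup -/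
theorem Pres.OK.bound (h : P.OK) {D : Dat} {n m : ℕ} {ls ms : List ℕ} {tree : List ℕ}
    {bs : List Blk} (hL : D.L = ls.length) (hiv : D.iv = List.range ls.length)
    (hR : (D.R.all fun w => decide ((w.map fun l => ls.getD l (P.gl.length)) ∈ P.R)) = true)
    (hS : (D.S.all fun w => w.all fun l => decide (ls.getD l (P.gl.length) ∈ ms)) = true)
    (hT : ∀ l, l < D.L → ∀ i, i < n → tget D.cols i l < n) (hn : 0 < n)
    (hc : closeCheck D n tree bs = true)
    (hm : Finite (P.sub ms) ∧ Nat.card (P.sub ms) ≤ m) :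
    Finite (P.sub ls) ∧ Nat.card (P.sub ls) ≤ n * m := by
  let e : ℕ → P.Gp := fun l => P.e (ls.getD l (P.gl.length))
  have hinv : ∀ l, e (linv D.iv l) = (e l)⁻¹ := by
    intro l
    rw [hiv, linv_range]
    exact eOf_inv h.sq _
  have hD : Hyp D e (P.sub ms) := by
    refine ⟨hinv, fun w hw => ?_, fun w hw => ?_⟩
    · rw [← evalW_map P.e (fun l => ls.getD l (P.gl.length))]
      exact h.rel _ (of_decide_eq_true ((List.all_eq_true.mp hR) w hw))
    · apply list_prod_mem
      intro x hx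
      obtain ⟨l, hl, rfl⟩ := List.mem_map.mp hx
      exact Subgroup.subset_closure ⟨_,
        of_decide_eq_true ((List.all_eq_true.mp ((List.all_eq_true.mp hS) w hw)) l hl), rfl⟩
  have hE : ∀ l, l < D.L → e l ∈ P.sub ls := by
    intro l hl
    refine Subgroup.subset_closure ⟨_, ?_, rfl⟩
    rw [hL] at hl
    rw [List.getD_eq_getElem _ _ hl]
    exact List.getElem_mem hl
  obtain ⟨-, w, hw0, -, hw⟩ := closeCheck_sound hD hE hc
  have := hm.1
  refine card_le_of_cosets (w := w) (cosets_exhaust (e := e) (iv := D.iv) ?_ (fun l hl => ⟨?_, hinv l⟩)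
    hT hn hw0 hw) hm.2
  · refine (Subgroup.closure_le _).mpr ?_
    rintro _ ⟨x, hx, rfl⟩
    obtain ⟨k, hk, rfl⟩ := List.getElem_of_mem hx
    refine Subgroup.subset_closure ⟨k, hL ▸ hk, ?_⟩
    change P.e (ls.getD k (P.gl.length)) = P.e ls[k]
    rw [List.getD_eq_getElem _ _ hk]
  · rw [hiv, linv_range]; exact hl

theorem Pres.sub_nil_card : Finite (P.sub []) ∧ Nat.card (P.sub []) ≤ 1 := by
  rw [Pres.sub_nil]
  exact ⟨inferInstance, le_of_eq Subgroup.card_bot⟩

/-- range bound from a column check -/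
theorem permCheck_lt {L n : ℕ} {iv cols : List ℕ} {R : List (List ℕ)}
    (h : permCheck L n iv cols R = true) : ∀ l, l < L → ∀ i, i < n → tget cols i l < n :=
  (permCheck_PT h).lt

/-- all entries of all columns are `< n` -/
noncomputable def ltCheck (L n : ℕ) (cols : List ℕ) : Bool :=
  (List.range L).all fun l => colOK (cols.getD l 0) (cols.getD l 0) n n

theorem ltCheck_sound {L n : ℕ} {cols : List ℕ} (h : ltCheck L n cols = true) :
    ∀ l, l < L → ∀ i, i < n → tget cols i l < n :=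
  fun _ hl i hi => (colOK_sound (range_all h hl) i hi).1

/-- a checked table identifies the cosets -/
theorem Pres.OK.index (h : P.OK) {n : ℕ} {cols : List ℕ} {S : List (List ℕ)} {tree : List ℕ}
    {bs : List Blk} (hn : 0 < n)
    (hc : closeCheck ⟨P.gl.length, List.range P.gl.length, cols, P.R, S⟩ n tree bs = true)
    (hp : permCheck P.gl.length n (List.range P.gl.length) cols P.R = true)
    (hf : fixZero P.gl.length cols S = true) :
    ∃ φ : P.Gp →* Equiv.Perm (Fin n), Act (permCheck_PT hp) P.e φ ∧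
      ∃ F : P.Gp ⧸ P.wsub S ≃ Fin n, F (QuotientGroup.mk (1 : P.Gp)) = ⟨0, hn⟩ ∧
        ∀ g : P.Gp, ∀ x : P.Gp ⧸ P.wsub S, F (g • x) = φ g (F x) := by
  obtain ⟨φ, hA⟩ := h.act hp
  have hD : Hyp ⟨P.gl.length, List.range P.gl.length, cols, P.R, S⟩ P.e (P.wsub S) :=
    ⟨h.e_inv _, h.rel, fun w hw => Subgroup.subset_closure ⟨w, hw, rfl⟩⟩
  obtain ⟨htr, w, hw0, -, hw⟩ := closeCheck_sound hD (E := ⊤) (fun _ _ => Subgroup.mem_top _) hc
  refine ⟨φ, hA, cosetEquiv hA hn (fun l _ => h.e_inv _ l) h.gen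
    (fun x hx => fixZero_sound hA hn hf le_rfl hx) htr hw0 hw⟩

theorem index_eq_of_equiv {G : Type*} [Group G] {H : Subgroup G} {n : ℕ}
    (F : G ⧸ H ≃ Fin n) : H.index = n := by
  rw [Subgroup.index, Nat.card_congr F, Nat.card_fin]

theorem orbit_ncard {n : ℕ} {iv cols : List ℕ} {T : PT P.gl.length n iv cols}
    {φ : P.Gp →* Equiv.Perm (Fin n)} (hA : Act T P.e φ) {S : List (List ℕ)}
    (hSl : ∀ g ∈ S, ∀ l ∈ g, l < P.gl.length) (F : P.Gp ⧸ P.wsub S ≃ Fin n)
    (hF : ∀ g : P.Gp, ∀ x : P.Gp ⧸ P.wsub S, F (g • x) = φ g (F x)) {b count : ℕ}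
    {steps : List ℕ} (ho : orbExact n cols S b count steps = true) :
    ∃ q : P.Gp ⧸ P.wsub S, (F q : ℕ) = b ∧ (MulAction.orbit (P.wsub S) q).ncard = count := by
  obtain ⟨hb, hcount⟩ := orbExact_sound T hSl ho
  refine ⟨F.symm ⟨b, hb⟩, by simp, ?_⟩
  have hmap : (P.wsub S).map φ = Subgroup.closure {y | ∃ g ∈ S, evalW (sig T) g = y} := by
    rw [Pres.wsub, MonoidHom.map_closure]
    congr 1
    ext y
    constructor
    · rintro ⟨_, ⟨g, hg, rfl⟩, rfl⟩
      exact ⟨g, hg, (hA.evalW g (hSl g hg)).symm⟩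
    · rintro ⟨g, hg, rfl⟩
      exact ⟨_, ⟨g, hg, rfl⟩, hA.evalW g (hSl g hg)⟩
  rw [← hcount, ← Set.ncard_image_of_injective _ F.injective]
  congr 1
  ext y
  constructor
  · rintro ⟨_, ⟨⟨g, hg⟩, rfl⟩, rfl⟩
    refine ⟨⟨φ g, hmap ▸ Subgroup.mem_map_of_mem φ hg⟩, ?_⟩
    change φ g ⟨b, hb⟩ = F (g • F.symm ⟨b, hb⟩)
    rw [hF, Equiv.apply_symm_apply]
  · rintro ⟨⟨z, hz⟩, rfl⟩
    rw [← hmap] at hz
    obtain ⟨g, hg, rfl⟩ := hz
    refine ⟨g • F.symm ⟨b, hb⟩, ⟨⟨g, hg⟩, rfl⟩, ?_⟩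
    rw [hF, Equiv.apply_symm_apply]
    rfl

/-- the order from an upper bound and a chain in an action -/
theorem card_eq_of_chain {n m : ℕ} {iv cols : List ℕ} {T : PT P.gl.length n iv cols}
    {φ : P.Gp →* Equiv.Perm (Fin n)} (hA : Act T P.e φ) [Finite P.Gp]
    (hle : Nat.card P.Gp ≤ m) {lvs : List Lvl}
    (hc : chainCheck P.gl.length n cols lvs = true) (hm : chainProd lvs = m) :
    Nat.card P.Gp = m ∧ Function.Injective φ := by
  have h1 : m ≤ Nat.card φ.range := by
    rw [← hm]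
    refine chainCheck_sound T hc _ fun lv hlv g hg => ?_
    exact ⟨_, hA.evalW g (chainCheck_letters hc lv hlv g hg)⟩
  have h2 : Nat.card φ.range ≤ Nat.card P.Gp :=
    Nat.card_le_card_of_surjective φ.rangeRestrict φ.rangeRestrict_surjective
  refine ⟨le_antisymm hle (h1.trans h2), ?_⟩
  have hr : Nat.card φ.range = Nat.card P.Gp := le_antisymm h2 (hle.trans h1)
  have : Function.Bijective φ.rangeRestrict :=
    (Nat.bijective_iff_surjective_and_card _).mpr ⟨φ.rangeRestrict_surjective, hr.symm⟩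
  intro a b hab
  exact this.1 (Subtype.ext hab)

/-- a word acting as the identity is trivial -/
theorem evalW_eq_one {n : ℕ} {iv cols : List ℕ} {T : PT P.gl.length n iv cols}
    {φ : P.Gp →* Equiv.Perm (Fin n)} (hA : Act T P.e φ) (hinj : Function.Injective φ)
    {w : List ℕ}
    (hw : (w.all (fun l => Nat.blt l P.gl.length) &&
      fixAll (w.map fun l => cols.getD l 0) n) = true) : evalW P.e w = 1 := by
  simp only [Bool.and_eq_true, List.all_eq_true, blt_iff] at hw
  apply hinj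
  rw [map_one, hA.evalW w hw.1, ← inv_eq_one]
  apply Equiv.ext; intro i; apply Fin.ext
  rw [sig_walk T w hw.1, ← walkC_map, fixAll_sound hw.2 _ i.isLt]
  rfl

theorem pow_elem_mem {G : Type*} [Group G] {N : Subgroup G} [N.Normal] {p : ℕ}
    (hcop : Nat.Coprime p N.index) {y : G} (hy : y ^ p = 1) : y ∈ N := by
  have h1 : orderOf (QuotientGroup.mk' N y) ∣ p :=
    orderOf_dvd_of_pow_eq_one (by rw [← map_pow, hy, map_one])
  have h2 : orderOf (QuotientGroup.mk' N y) ∣ N.index := by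
    rw [Subgroup.index]; exact orderOf_dvd_natCard _
  have h3 : orderOf (QuotientGroup.mk' N y) = 1 :=
    Nat.dvd_one.mp (hcop ▸ Nat.dvd_gcd h1 h2)
  exact (QuotientGroup.eq_one_iff y).mp (orderOf_eq_one_iff.mp h3)

/-- a nontrivial normal subgroup in a faithful transitive action with a prime power of the order
dividing the degree and no nontrivial block contains all elements of that prime order -/
theorem normal_index_coprime {G : Type*} [Group G] [Finite G] {n p k : ℕ} (hn : 0 < n)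
    (hp : p.Prime) (φ : G →* Equiv.Perm (Fin n)) (hinj : Function.Injective φ)
    (htr : ∀ i, ∃ g, φ g ⟨0, hn⟩ = i) (H : Subgroup G)
    (hH : ∀ h ∈ H, φ h ⟨0, hn⟩ = ⟨0, hn⟩)
    (hblock : ∀ B : Set (Fin n), (⟨0, hn⟩ : Fin n) ∈ B → (∀ h ∈ H, ∀ b ∈ B, φ h b ∈ B) →
      B.ncard ∣ n → B.ncard = 1 ∨ B.ncard = n)
    (hk : p ^ k ∣ n) (hk' : ¬ p ^ (k + 1) ∣ Nat.card G)
    (N : Subgroup G) [hN : N.Normal] (hne : N ≠ ⊥) : Nat.Coprime p N.index := by
  let b0 : Fin n := ⟨0, hn⟩
  let X : Subgroup (Equiv.Perm (Fin n)) := N.map φ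
  have hXc : ∀ g : G, ∀ x ∈ X, φ g * x * (φ g)⁻¹ ∈ X := by
    rintro g _ ⟨x, hx, rfl⟩
    exact ⟨g * x * g⁻¹, hN.conj_mem x hx g, by simp⟩
  have hcard : ∀ i : Fin n, (MulAction.orbit X i).ncard = (MulAction.orbit X b0).ncard := by
    intro i
    obtain ⟨g, rfl⟩ := htr i
    rw [← Set.ncard_image_of_injective (MulAction.orbit X b0) (φ g).injective]
    congr 1
    ext z
    constructor
    · rintro ⟨⟨x, hx⟩, rfl⟩
      refine ⟨((φ g)⁻¹ * x * φ g) b0, ⟨⟨_, ?_⟩, rfl⟩, ?_⟩
      · have := hXc g⁻¹ x hx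
        simpa using this
      · change φ g ((φ g)⁻¹ (x (φ g b0))) = x (φ g b0)
        rw [Equiv.Perm.inv_def, Equiv.apply_symm_apply]
    · rintro ⟨_, ⟨⟨x, hx⟩, rfl⟩, rfl⟩
      refine ⟨⟨_, hXc g x hx⟩, ?_⟩
      change φ g (x ((φ g)⁻¹ (φ g b0))) = φ g (x b0)
      rw [Equiv.Perm.inv_def, Equiv.symm_apply_apply]
  have hdvd : (MulAction.orbit X b0).ncard ∣ n := by
    classical
    have e := MulAction.selfEquivSigmaOrbits X (Fin n)
    have hsum : n = ∑ ω : Quotient (MulAction.orbitRel X (Fin n)),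
        Nat.card (MulAction.orbit X ω.out) := by
      rw [← Nat.card_sigma, ← Nat.card_congr e, Nat.card_fin]
    refine (Finset.dvd_sum fun ω _ => ?_).trans hsum.symm.dvd
    rw [Nat.card_coe_set_eq]
    exact (hcard _).symm.dvd
  have hinvB : ∀ h ∈ H, ∀ b ∈ MulAction.orbit X b0, φ h b ∈ MulAction.orbit X b0 := by
    rintro h hh _ ⟨⟨x, hx⟩, rfl⟩
    refine ⟨⟨_, hXc h x hx⟩, ?_⟩
    change φ h (x ((φ h)⁻¹ b0)) = φ h (x b0)
    rw [Equiv.Perm.inv_def, (Equiv.symm_apply_eq _).mpr (hH h hh).symm]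
  rcases hblock _ (MulAction.mem_orbit_self _) hinvB hdvd with h1 | h1
  · exfalso
    apply hne
    rw [Subgroup.eq_bot_iff_forall]
    intro x hx
    apply hinj
    rw [map_one]
    apply Equiv.ext; intro i
    have h2 : (MulAction.orbit X i).ncard = 1 := by rw [hcard, h1]
    obtain ⟨a, ha⟩ := Set.ncard_eq_one.mp h2
    have e1 : φ x i ∈ MulAction.orbit X i := ⟨⟨_, Subgroup.mem_map_of_mem φ hx⟩, rfl⟩
    have e2 : i ∈ MulAction.orbit X i := MulAction.mem_orbit_self i
    rw [ha, Set.mem_singleton_iff] at e1 e2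
    rw [e1]; exact e2.symm
  · have h3 : n ∣ Nat.card N := by
      have h4 : Nat.card (MulAction.orbit X b0) ∣ Nat.card X :=
        ⟨Nat.card (MulAction.stabilizer X b0), by
          rw [← Nat.card_prod]
          exact (Nat.card_congr (MulAction.orbitProdStabilizerEquivGroup X b0)).symm⟩
      rw [Nat.card_coe_set_eq, h1, Subgroup.card_map_of_injective hinj] at h4
      exact h4
    refine (Nat.Prime.coprime_iff_not_dvd hp).mpr fun hdiv => hk' ?_
    rw [← N.card_mul_index, pow_succ]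
    exact Nat.mul_dvd_mul (hk.trans h3) hdiv

theorem mem_of_odd_edge {G : Type*} [Group G] {N : Subgroup G} [N.Normal] {x y : G} {m : ℕ}
    (hm : Odd m) (h : (x * y) ^ m = 1) (hy : y * y = 1) (hx : x ∈ N) : y ∈ N := by
  obtain ⟨j, rfl⟩ := hm
  rw [← QuotientGroup.eq_one_iff (N := N)] at hx ⊢
  have h2 := congrArg (QuotientGroup.mk' N) h
  simp only [map_pow, map_mul, map_one, QuotientGroup.mk'_apply] at h2
  rw [hx, one_mul, pow_succ, pow_mul] at h2
  have h3 := congrArg (QuotientGroup.mk' N) hy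
  simp only [map_mul, map_one, QuotientGroup.mk'_apply] at h3
  rw [pow_two, h3, one_pow, one_mul] at h2
  exact h2

end Cfsg.Agent.H45
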