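import Cfsg.Agent.H45.J4M24
import Cfsg.Agent.H45.J4Rep
import Cfsg.Agent.Golay.M24
import Cfsg.Agent.Golay.Mathieu
import Cfsg.Agent.H94.Mult.Main

/-!
The subgroup `⟨x, y⟩` of the presented group `Cfsg.Spor.J4` is isomorphic to `Cfsg.M24`.
-/

set_option autoImplicit false
set_option maxRecDepth 100000

namespace Cfsg.Agent.H45.J4Main

open Cfsg Cfsg.Agent.Golay J4M24

/-- the letters as words in two free generators -/
def fw : ℕ → FreeGroup Bool := e0 (FreeGroup.of false) (FreeGroup.of true)

/-- the group presented by the seven relators -/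
abbrev Gam : Type := PresentedGroup {r : FreeGroup Bool | r ∈ relWords0.map (evalW fw)}

theorem map_e0 {G H : Type*} [Group G] [Group H] (f : G →* H) (a b : G) (l : ℕ) :
    f (e0 a b l) = e0 (f a) (f b) l := by
  match l with
  | 0 => rfl
  | 1 => rfl
  | 2 => exact map_inv f b
  | n + 3 => exact map_one f

theorem map_evalW {G H : Type*} [Group G] [Group H] (f : G →* H) (a b : G) (w : List ℕ) :
    f (evalW (e0 a b) w) = evalW (e0 (f a) (f b)) w := by
  rw [evalW, map_list_prod, List.map_map]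
  exact congrArg List.prod (List.map_congr_left fun l _ => map_e0 f a b l)

/-- the generator `x` -/
def gx : Gam := PresentedGroup.of false

/-- the generator `y` -/
def gy : Gam := PresentedGroup.of true

theorem gam_rels : Rels gx gy := by
  intro w hw
  have h := PresentedGroup.one_of_mem
    (rels := {r : FreeGroup Bool | r ∈ relWords0.map (evalW fw)}) (List.mem_map.mpr ⟨w, hw, rfl⟩)
  rw [fw, map_evalW] at h
  exact h

theorem gam_gen : Subgroup.closure {gx, gy} = ⊤ := by
  rw [eq_top_iff, ← PresentedGroup.closure_range_of, Subgroup.closure_le]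
  rintro _ ⟨(_ | _), rfl⟩
  · exact Subgroup.subset_closure (Set.mem_insert _ _)
  · exact Subgroup.subset_closure (Set.mem_insert_of_mem _ rfl)

/-- values satisfying the relators give a homomorphism -/
theorem exists_hom {G : Type} [Group G] (a b : G) (h : Rels a b) :
    ∃ φ : Gam →* G, φ gx = a ∧ φ gy = b := by
  let f : Bool → G := fun z => bif z then b else a
  have hr : ∀ r ∈ {r : FreeGroup Bool | r ∈ relWords0.map (evalW fw)}, FreeGroup.lift f r = 1 := by
    intro r hr
    obtain ⟨w, hw, rfl⟩ := List.mem_map.mp hr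
    rw [fw, map_evalW, FreeGroup.lift_apply_of, FreeGroup.lift_apply_of]
    exact h w hw
  exact ⟨PresentedGroup.toGroup hr, PresentedGroup.toGroup.of hr, PresentedGroup.toGroup.of hr⟩

theorem gam_bound : Finite Gam ∧ Nat.card Gam ≤ 3 * 244823040 := by
  have h := bound gam_rels
  rw [gam_gen] at h
  exact ⟨@Finite.of_equiv _ _ h.1 (Subgroup.topEquiv (G := Gam)).toEquiv,
    (Nat.card_congr (Subgroup.topEquiv (G := Gam)).toEquiv) ▸ h.2⟩

theorem gam_perfect : commutator Gam = ⊤ := by
  have hc : ∀ g : Gam, Abelianization.of g = 1 := by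
    have h1 := congrArg (Abelianization.of (G := Gam)) (gam_rels [0, 0] (by decide +kernel))
    have h2 := congrArg (Abelianization.of (G := Gam)) (gam_rels [1, 1, 1] (by decide +kernel))
    have h3 := congrArg (Abelianization.of (G := Gam))
      (gam_rels (List.replicate 23 [0, 1]).flatten (by decide +kernel))
    rw [evalW_replicate, map_pow, map_one, map_mul] at h3
    simp only [evalW, List.map_cons, List.map_nil, List.prod_cons, List.prod_nil, e0, mul_one,
      map_mul, map_one] at h1 h2 h3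
    set u := Abelianization.of gx
    set v := Abelianization.of gy
    have h1' : u ^ 2 = 1 := by rw [pow_two]; exact h1
    have h2' : v ^ 3 = 1 := by rw [pow_succ, pow_two, mul_assoc]; exact h2
    have e1 : u ^ 23 = u := by
      rw [show (23 : ℕ) = 2 * 11 + 1 from rfl, pow_succ, pow_mul, h1', one_pow, one_mul]
    have e2 : v ^ 23 = v ^ 2 := by
      rw [show (23 : ℕ) = 3 * 7 + 2 from rfl, pow_add, pow_mul, h2', one_pow, one_mul]
    rw [mul_pow, e1, e2] at h3
    have hu : u = v := by
      calc u = u * v ^ 3 := by rw [h2', mul_one]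
        _ = u * v ^ 2 * v := by rw [pow_succ, mul_assoc]
        _ = v := by rw [h3, one_mul]
    have hv : v = 1 := by
      rw [hu] at h1'
      calc v = v ^ 3 := by rw [pow_succ, h1', one_mul]
        _ = 1 := h2'
    intro g
    have hg : g ∈ Subgroup.closure {gx, gy} := gam_gen ▸ Subgroup.mem_top g
    induction hg using Subgroup.closure_induction with
    | mem z hz =>
      rcases hz with rfl | rfl
      · exact hu.trans hv
      · exact hv
    | one => exact map_one _
    | mul _ _ _ _ hp hq => rw [map_mul, hp, hq, mul_one]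
    | inv _ _ hp => rw [map_inv, hp, inv_one]
  rw [eq_top_iff]
  intro g _
  exact (QuotientGroup.eq_one_iff g).mp (hc g)

/-- the permutation of `x` as a list -/
def xL : List ℕ := [4, 21, 17, 12, 0, 19, 8, 14, 6, 23, 20, 15, 3, 16, 7, 11, 13, 2, 22, 5, 10, 1, 18, 9]

/-- the permutation of `y` as a list -/
def yL : List ℕ := [0, 6, 15, 10, 23, 9, 22, 7, 8, 19, 18, 4, 12, 14, 17, 20, 16, 13, 3, 5, 2, 21, 1, 11]

/-- the inverse of the permutation of `y` as a list -/
def yiL : List ℕ := [0, 22, 20, 18, 11, 19, 1, 7, 8, 5, 3, 23, 12, 17, 13, 2, 16, 14, 10, 9, 15, 21, 6, 4]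

/-- `x` on the 24 points -/
def xPerm : Equiv.Perm GolayPt where
  toFun p := pt (xL.getD (idx p) 0)
  invFun p := pt (xL.getD (idx p) 0)
  left_inv := by unfold Function.LeftInverse; decide +kernel
  right_inv := by unfold Function.RightInverse Function.LeftInverse; decide +kernel

/-- `y` on the 24 points -/
def yPerm : Equiv.Perm GolayPt where
  toFun p := pt (yL.getD (idx p) 0)
  invFun p := pt (yiL.getD (idx p) 0)
  left_inv := by unfold Function.LeftInverse; decide +kernel
  right_inv := by unfold Function.RightInverse Function.LeftInverse; decide +kernel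

theorem xPerm_mem : xPerm ∈ M24 := mem_M24_of_tblOf (by decide +kernel)

theorem yPerm_mem : yPerm ∈ M24 := mem_M24_of_tblOf (by decide +kernel)

theorem perm_rels : Rels (G := M24) ⟨xPerm, xPerm_mem⟩ ⟨yPerm, yPerm_mem⟩ := by
  have key : ∀ w ∈ relWords0, ∀ p, evalW (e0 xPerm yPerm) w p = p := by decide +kernel
  intro w hw
  apply Subtype.ext
  have := map_evalW M24.subtype (⟨xPerm, xPerm_mem⟩ : M24) ⟨yPerm, yPerm_mem⟩ w
  exact this.trans (Equiv.ext (key w hw))

/-- word of the translation -/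
def translW : List ℕ := [2, 0, 1, 0, 1, 0, 1, 0, 2, 0, 1, 0, 1, 0, 1, 0, 1, 0, 1, 0, 1, 0, 2, 0, 2,
  0, 2, 0, 1, 0, 1, 0, 2, 0, 1, 0, 1, 0, 1, 0, 1, 0, 1, 0, 1, 0, 2, 0, 2, 0]

/-- word of the inversion -/
def invW : List ℕ := [2, 0, 1, 0, 1, 0, 1, 0, 1, 0, 1, 0, 2, 0, 2, 0, 2, 0, 2, 0, 2, 0, 1, 0, 2, 0,
  1, 0, 2, 0, 1, 0, 2, 0, 2, 0, 1, 0, 1, 0, 1, 0, 1, 0, 2, 0, 2, 0, 1, 0, 1, 0, 2, 0]

/-- word of the cube twist -/
def cubeW : List ℕ := [0, 2, 0, 2, 0, 1, 0, 1, 0, 2, 0, 2, 0, 2, 0, 1, 0, 1, 0, 2, 0, 1, 0, 2, 0, 1,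
  0, 1, 0, 1, 0, 2, 0, 2, 0, 2, 0, 2, 0, 2, 0, 2, 0, 1, 0, 1, 0, 2, 0, 1, 0, 1, 0, 1]

theorem transl_word : ∀ p, evalW (e0 xPerm yPerm) translW p = transl p := by decide +kernel

theorem inv_word : ∀ p, evalW (e0 xPerm yPerm) invW p = projInv p := by decide +kernel

theorem cube_word : ∀ p, evalW (e0 xPerm yPerm) cubeW p = cubeTwist p := by decide +kernel

/-- the presented group maps isomorphically onto `M₂₄` -/
theorem exists_iso : ∃ e : Gam ≃* M24, e gx = ⟨xPerm, xPerm_mem⟩ ∧ e gy = ⟨yPerm, yPerm_mem⟩ := by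
  obtain ⟨π, hx, hy⟩ := exists_hom (G := M24) _ _ perm_rels
  have hsurj : Function.Surjective π := by
    have hr : M24 ≤ π.range.map M24.subtype := by
      refine le_of_eq_of_le closure_eq_M24.symm ((Subgroup.closure_le _).mpr ?_)
      have key : ∀ w σ, (∀ p, evalW (e0 xPerm yPerm) w p = σ p) → σ ∈ π.range.map M24.subtype :=
        fun w σ hw => ⟨π (evalW (e0 gx gy) w), ⟨_, rfl⟩, by
          rw [map_evalW, hx, hy, map_evalW]
          exact Equiv.ext hw⟩
      rintro σ (rfl | rfl | rfl)
      · exact key _ _ transl_word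
      · exact key _ _ inv_word
      · exact key _ _ cube_word
    intro m
    obtain ⟨n, ⟨g, hg⟩, hn⟩ := hr m.2
    exact ⟨g, hg.trans (Subtype.ext hn)⟩
  obtain ⟨hfin, hle⟩ := gam_bound
  have hk : Nat.card π.ker ≤ 3 := by
    have h1 := π.ker.card_mul_index
    rw [Subgroup.index_ker, MonoidHom.range_eq_top.mpr hsurj, Subgroup.card_top, card_M24] at h1
    omega
  have hcen : π.ker ≤ Subgroup.center Gam := by
    classical
    let c : Gam →* MulAut π.ker := MulAut.conjNormal
    have hcom : ∀ s t : MulAut π.ker, s * t = t * s := by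
      have hpos : 0 < Nat.card π.ker := Nat.card_pos
      have hcyc : IsCyclic π.ker := by
        rcases (show Nat.card π.ker = 1 ∨ Nat.card π.ker = 2 ∨ Nat.card π.ker = 3 by omega) with
          h | h | h
        · have := (Nat.card_eq_one_iff_unique.mp h).1
          infer_instance
        · have : Fact (Nat.Prime 2) := ⟨Nat.prime_two⟩
          exact isCyclic_of_prime_card h
        · have : Fact (Nat.Prime 3) := ⟨Nat.prime_three⟩
          exact isCyclic_of_prime_card h
      obtain ⟨g, hg⟩ := IsCyclic.exists_generator (α := π.ker)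
      intro s t
      obtain ⟨i, hi⟩ := hg (s g)
      obtain ⟨j, hj⟩ := hg (t g)
      apply MulEquiv.ext
      intro x
      obtain ⟨k, rfl⟩ := hg x
      simp only [MulAut.mul_apply, map_zpow, ← hi, ← hj, ← zpow_mul, mul_comm i j]
    have hle2 : commutator Gam ≤ c.ker := by
      rw [commutator_def, Subgroup.commutator_le]
      intro g _ g' _
      rw [MonoidHom.mem_ker, commutatorElement_def, map_mul, map_mul, map_mul, map_inv, map_inv,
        hcom (c g) (c g'), mul_inv_cancel_right, mul_inv_cancel]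
    rw [gam_perfect, top_le_iff] at hle2
    intro k hk
    rw [Subgroup.mem_center_iff]
    intro g
    have h1 : c g = 1 := by
      rw [← MonoidHom.mem_ker, hle2]; exact Subgroup.mem_top g
    have h2 := congrArg Subtype.val (DFunLike.congr_fun h1 ⟨k, hk⟩)
    simp only [c, MulAut.conjNormal_apply, MulAut.one_apply] at h2
    exact mul_inv_eq_iff_eq_mul.mp h2
  obtain ⟨-, hm⟩ := H94.Mult.hasTrivialMultiplier_M24
  obtain ⟨p, hp⟩ := hm Gam π ⟨hsurj, hcen, gam_perfect ▸ le_top⟩
  have hinj : Function.Injective π := by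
    rw [injective_iff_map_eq_one]
    intro g hg
    obtain ⟨u, hu⟩ := hp ⟨g, hg⟩
    rw [Subsingleton.elim u 1, map_one] at hu
    exact congrArg Subtype.val hu.symm
  exact ⟨MulEquiv.ofBijective π ⟨hinj, hsurj⟩, hx, hy⟩

/-- `x` in the presented J₄ -/
def jx : Spor.J4 := PresentedGroup.of Spor.J4.Gen.x

/-- `y` in the presented J₄ -/
def jy : Spor.J4 := PresentedGroup.of Spor.J4.Gen.y

theorem rels_of_extra {H : Type} [Group H] (f : Spor.J4.Gen → H)
    (h1 : ∀ r ∈ Spor.J4.extra, FreeGroup.lift f r = 1) :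
    Rels (f Spor.J4.Gen.x) (f Spor.J4.Gen.y) := by
  simp only [Spor.J4.extra, List.forall_mem_cons, map_pow, map_mul, map_inv, Spor.J4.x, Spor.J4.y,
    Spor.J4.t, FreeGroup.lift_apply_of] at h1
  generalize f Spor.J4.Gen.x = jx at h1 ⊢
  generalize f Spor.J4.Gen.y = jy at h1 ⊢
  obtain ⟨r1, r2, r3, r4, r5, r6, r7, -⟩ := h1
  have hi : jx⁻¹ = jx := inv_eq_of_mul_eq_one_right (by rw [← pow_two]; exact r1)
  simp only [hi, mul_inv_rev] at r4 r5
  intro w hw
  simp only [relWords0, List.mem_cons, List.not_mem_nil, or_false] at hw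
  rcases hw with rfl | rfl | rfl | rfl | rfl | rfl | rfl <;>
    simp only [evalW, List.map_cons, List.map_nil, List.prod_cons, List.prod_nil, e0, mul_one]
  · simpa [pow_succ, mul_assoc] using r1
  · simpa [pow_succ, mul_assoc] using r2
  · simpa [pow_succ, mul_assoc] using r3
  · simpa [pow_succ, mul_assoc] using r4
  · simpa [pow_succ, mul_assoc] using r5
  · simpa [pow_succ, mul_assoc] using r6
  · simpa [pow_succ, mul_assoc] using r7

theorem j4_rels : Rels jx jy :=
  rels_of_extra PresentedGroup.of fun r hr => by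
    rw [mk_eq_lift]
    exact PresentedGroup.one_of_mem (Or.inr hr)

/-- `M₂₄` embeds in the presented J₄ as `⟨x, y⟩` -/
theorem exists_embedding : ∃ φ : M24 →* Spor.J4, Function.Injective φ ∧
    φ ⟨xPerm, xPerm_mem⟩ = jx ∧ φ ⟨yPerm, yPerm_mem⟩ = jy ∧
    φ.range = Subgroup.closure {jx, jy} := by
  obtain ⟨η, hx, hy⟩ := exists_hom jx jy j4_rels
  obtain ⟨e, ex, ey⟩ := exists_iso
  let φ : M24 →* Spor.J4 := η.comp e.symm.toMonoidHom
  have hfx : φ ⟨xPerm, xPerm_mem⟩ = jx := by
    change η (e.symm _) = _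
    rw [← ex, MulEquiv.symm_apply_apply, hx]
  have hfy : φ ⟨yPerm, yPerm_mem⟩ = jy := by
    change η (e.symm _) = _
    rw [← ey, MulEquiv.symm_apply_apply, hy]
  refine ⟨φ, ?_, hfx, hfy, ?_⟩
  · have : IsSimpleGroup M24 := isSimpleGroup_M24
    rcases φ.normal_ker.eq_bot_or_eq_top with h | h
    · exact (MonoidHom.ker_eq_bot_iff φ).mp h
    · exfalso
      refine J4Rep.of_x_ne_one ?_
      change jx = 1
      rw [← hfx, ← MonoidHom.mem_ker, h]
      exact Subgroup.mem_top _
  · have hφ : φ.range = η.range := by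
      ext z
      constructor
      · rintro ⟨m, rfl⟩; exact ⟨_, rfl⟩
      · rintro ⟨g, rfl⟩
        exact ⟨e g, congrArg η (e.symm_apply_apply g)⟩
    rw [hφ, MonoidHom.range_eq_map, ← gam_gen, MonoidHom.map_closure, Set.image_pair, hx, hy]

end Cfsg.Agent.H45.J4Main
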