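import Cfsg.Agent.H45.CosetDerived

/-!
Partitions into suborbits, and primitivity.
-/

set_option autoImplicit false

open scoped Pointwise

namespace Cfsg.Agent.H45

variable {L n : ℕ} {iv cols : List ℕ}

/-- exact orbit, avoiding one further point -/
noncomputable def orbAvoid (n : ℕ) (cols : List ℕ) (gens : List (List ℕ)) (b count b' : ℕ)
    (steps : List ℕ) : Bool :=
  Nat.blt b n && orbAll n (gens.map fun g => g.map fun l => cols.getD l 0) steps
    (0 ||| (1 <<< b)) 1 fun K m =>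
      Nat.beq m count && orbClosed (gens.map fun g => g.map fun l => cols.getD l 0) K n &&
        !bget K b'

/-- partition of all points into orbits -/
noncomputable def orbPart (n : ℕ) (cgens : List (List ℕ)) :
    List (ℕ × ℕ × List ℕ) → ℕ → Bool
  | [], acc => Nat.beq acc (2 ^ n - 1)
  | (b, count, steps) :: rest, acc =>
    Nat.blt b n && orbAll n cgens steps (0 ||| (1 <<< b)) 1 fun K m =>
      Nat.beq m count && orbClosed cgens K n && Nat.beq (K &&& acc) 0 &&
        force (K ||| acc) fun acc' => orbPart n cgens rest acc'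

/-- sums of sublists -/
def subSums : List ℕ → List ℕ
  | [] => [0]
  | c :: cs => subSums cs ++ (subSums cs).map (c + ·)

/-- no proper divisor of `n` above `1` is one plus a subsum -/
def blockFree (n : ℕ) (cs : List ℕ) : Bool :=
  (subSums cs).all fun s => Nat.beq s 0 || Nat.beq (1 + s) n || !(Nat.beq (n % (1 + s)) 0)

theorem orbit_finset (P : PT L n iv cols) {gens : List (List ℕ)}
    (hg : ∀ g ∈ gens, ∀ l ∈ g, l < L) {b : Fin n} {K m : ℕ} (hI : OInv P gens b K m)
    (hc : orbClosed (gens.map fun g => g.map fun l => cols.getD l 0) K n = true) :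
    ∃ s : Finset (Fin n), s.card = m ∧ (∀ q : ℕ, bget K q = true ↔ ∃ x ∈ s, (x : ℕ) = q) ∧
      (s : Set (Fin n)) =
        MulAction.orbit (Subgroup.closure {y | ∃ g ∈ gens, evalW (sig P) g = y}) b := by
  obtain ⟨s, hcard, hbs, hbit, hY⟩ := hI
  refine ⟨s, hcard, hbit, Set.Subset.antisymm ?_ ?_⟩
  · exact fun x hx => hY (Subgroup.closure {y | ∃ g ∈ gens, evalW (sig P) g = y})
      (fun g hgm => Subgroup.subset_closure ⟨g, hgm, rfl⟩) x hx
  · have hcl : ∀ g ∈ gens, ∀ x ∈ s, (evalW (sig P) g)⁻¹ x ∈ s := by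
      intro g hgm x hx
      have := orbClosed_sound hc x x.isLt ((hbit _).mpr ⟨x, hx, rfl⟩)
        (g.map fun l => cols.getD l 0) (List.mem_map.mpr ⟨g, hgm, rfl⟩)
      rw [walkC_map, ← sig_walk P g (hg g hgm) x] at this
      obtain ⟨z, hz, hzx⟩ := (hbit _).mp this
      rwa [← Fin.ext hzx]
    have hle : Subgroup.closure {y | ∃ g ∈ gens, evalW (sig P) g = y} ≤
        MulAction.stabilizer (Equiv.Perm (Fin n)) (s : Set (Fin n)) := by
      rw [Subgroup.closure_le]
      rintro _ ⟨g, hgm, rfl⟩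
      have hinvmem : (evalW (sig P) g)⁻¹ ∈
          MulAction.stabilizer (Equiv.Perm (Fin n)) (s : Set (Fin n)) := by
        rw [MulAction.mem_stabilizer_iff]
        refine Set.eq_of_subset_of_ncard_le ?_ (le_of_eq ?_) (Set.toFinite _)
        · rintro _ ⟨x, hx, rfl⟩
          exact Finset.mem_coe.mpr (hcl g hgm x hx)
        · exact (Set.ncard_image_of_injective _ (MulAction.injective _)).symm
      simpa using inv_mem hinvmem
    rintro _ ⟨⟨y, hy⟩, rfl⟩
    have := hle hy
    rw [MulAction.mem_stabilizer_iff] at this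
    have h2 : y • b ∈ y • (s : Set (Fin n)) := Set.smul_mem_smul_set hbs
    rw [this] at h2
    exact h2

theorem orbAvoid_sound (P : PT L n iv cols) {gens : List (List ℕ)}
    (hg : ∀ g ∈ gens, ∀ l ∈ g, l < L) {b count b' : ℕ} {steps : List ℕ}
    (h : orbAvoid n cols gens b count b' steps = true) :
    ∃ hb : b < n, ∀ hb' : b' < n, (⟨b', hb'⟩ : Fin n) ∉
      MulAction.orbit (Subgroup.closure {y | ∃ g ∈ gens, evalW (sig P) g = y})
        (⟨b, hb⟩ : Fin n) := by
  unfold orbAvoid at h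
  simp only [Bool.and_eq_true, blt_iff] at h
  obtain ⟨hb, h'⟩ := h
  obtain ⟨K, m, hm, hI⟩ := orbAll_sound P hg _ _ _ _ (OInv_init P gens ⟨b, hb⟩) h'
  simp only [Bool.and_eq_true, Bool.not_eq_true'] at hm
  obtain ⟨s, -, hbit, hs⟩ := orbit_finset P hg hI hm.1.2
  refine ⟨hb, fun hb' hmem => ?_⟩
  rw [← hs, Finset.mem_coe] at hmem
  rw [(hbit b').mpr ⟨_, hmem, rfl⟩] at hm
  exact absurd hm.2 (by simp)

theorem orbPart_sound (P : PT L n iv cols) {gens : List (List ℕ)}
    (hg : ∀ g ∈ gens, ∀ l ∈ g, l < L) (B : Set (Fin n))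
    (hB : ∀ y ∈ Subgroup.closure {y | ∃ g ∈ gens, evalW (sig P) g = y}, ∀ x ∈ B, y x ∈ B) :
    ∀ (parts : List (ℕ × ℕ × List ℕ)) (acc : ℕ) (A : Finset (Fin n)),
      (∀ q : ℕ, bget acc q = true ↔ ∃ x ∈ A, (x : ℕ) = q) →
      orbPart n (gens.map fun g => g.map fun l => cols.getD l 0) parts acc = true →
        ∃ s ∈ subSums (parts.map fun p => p.2.1), B.ncard = (B ∩ A).ncard + s := by
  intro parts
  induction parts with
  | nil =>
    intro acc A hA h
    simp only [orbPart, Nat.beq_eq] at h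
    refine ⟨0, by simp [subSums], ?_⟩
    have : (A : Set (Fin n)) = Set.univ := by
      ext x
      simp only [Finset.mem_coe, Set.mem_univ, iff_true]
      have hb : bget acc x = true := by
        rw [bget_eq, h, Nat.testBit_two_pow_sub_one]; simp [x.isLt]
      obtain ⟨z, hz, hzx⟩ := (hA x).mp hb
      rwa [← Fin.ext hzx]
    rw [this, Set.inter_univ, Nat.add_zero]
  | cons p rest ih =>
    obtain ⟨b, count, steps⟩ := p
    intro acc A hA h
    simp only [orbPart, Bool.and_eq_true, blt_iff] at h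
    obtain ⟨hb, h'⟩ := h
    obtain ⟨K, m, hm, hI⟩ := orbAll_sound P hg _ _ _ _ (OInv_init P gens ⟨b, hb⟩) h'
    simp only [Bool.and_eq_true, Nat.beq_eq, force_eq] at hm
    obtain ⟨⟨⟨hmc, hcl⟩, hdis⟩, hrest⟩ := hm
    obtain ⟨s, hcard, hbit, hs⟩ := orbit_finset P hg hI hcl
    have hdisj : ∀ x ∈ s, x ∉ A := by
      intro x hx hxA
      have h1 : bget K x = true := (hbit _).mpr ⟨x, hx, rfl⟩
      have h2 : bget acc x = true := (hA _).mpr ⟨x, hxA, rfl⟩
      rw [bget_eq] at h1 h2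
      have h3 := congrArg (fun z => Nat.testBit z x) hdis
      simp [Nat.testBit_and, h1, h2] at h3
    obtain ⟨s', hs', hcount⟩ := ih (K ||| acc) (s ∪ A) (fun q => by
      rw [bget_eq, Nat.testBit_or, Bool.or_eq_true, ← bget_eq, ← bget_eq, hbit, hA]
      simp only [Finset.mem_union, or_and_right, exists_or]) hrest
    have hsplit : (B ∩ ((s ∪ A : Finset (Fin n)) : Set (Fin n))).ncard =
        (B ∩ s).ncard + (B ∩ A).ncard := by
      rw [Finset.coe_union, Set.inter_union_distrib_left, Set.ncard_union_eq]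
      rw [Set.disjoint_left]
      rintro x ⟨-, hx⟩ ⟨-, hxA⟩
      exact hdisj x hx hxA
    rw [List.map_cons, subSums]
    by_cases hne : ∃ x ∈ s, x ∈ B
    · have hfull : B ∩ (s : Set (Fin n)) = s := by
        refine Set.inter_eq_right.mpr fun z hz => ?_
        obtain ⟨x, hx, hxB⟩ := hne
        have hz' : z ∈ MulAction.orbit (Subgroup.closure {y | ∃ g ∈ gens, evalW (sig P) g = y})
            x := by
          rw [← Finset.mem_coe, hs] at hx
          rw [hs] at hz
          rw [MulAction.orbit_eq_iff.mpr hx]; exact hz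
        obtain ⟨⟨y, hy⟩, rfl⟩ := hz'
        exact hB y hy x hxB
      rw [hfull, Set.ncard_coe_finset, hcard, hmc] at hsplit
      refine ⟨count + s', List.mem_append_right _ (List.mem_map.mpr ⟨s', hs', rfl⟩), ?_⟩
      rw [hcount, hsplit]
      omega
    · have hempty : B ∩ (s : Set (Fin n)) = ∅ := by
        rw [Set.eq_empty_iff_forall_notMem]
        rintro x ⟨hxB, hx⟩
        exact hne ⟨x, hx, hxB⟩
      rw [hempty, Set.ncard_empty, Nat.zero_add] at hsplit
      exact ⟨s', List.mem_append_left _ hs', by rw [hcount, hsplit]⟩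

variable {Gen : Type} [DecidableEq Gen] {Pr : Pres Gen}

/-- no nontrivial block contains coset zero -/
theorem prim_of_part {cols : List ℕ} {T : PT Pr.gl.length n iv cols}
    {φ : Pr.Gp →* Equiv.Perm (Fin n)} (hA : Act T Pr.e φ) (hn : 0 < n) {S : List (List ℕ)}
    (hS : ∀ g ∈ S, ∀ l ∈ g, l < Pr.gl.length) {parts : List (ℕ × ℕ × List ℕ)}
    (hp : orbPart n (S.map fun g => g.map fun l => cols.getD l 0) parts (1 <<< 0) = true)
    (hfree : blockFree n (parts.map fun p => p.2.1) = true) (B : Set (Fin n))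
    (h0 : (⟨0, hn⟩ : Fin n) ∈ B) (hB : ∀ h ∈ Pr.wsub S, ∀ b ∈ B, φ h b ∈ B)
    (hdvd : B.ncard ∣ n) : B.ncard = 1 ∨ B.ncard = n := by
  have hmap : (Pr.wsub S).map φ = Subgroup.closure {y | ∃ g ∈ S, evalW (sig T) g = y} := by
    rw [Pres.wsub, MonoidHom.map_closure]
    congr 1
    ext y
    constructor
    · rintro ⟨_, ⟨g, hg, rfl⟩, rfl⟩
      exact ⟨g, hg, (hA.evalW g (hS g hg)).symm⟩
    · rintro ⟨g, hg, rfl⟩
      exact ⟨_, ⟨g, hg, rfl⟩, hA.evalW g (hS g hg)⟩
  obtain ⟨s, hs, hc⟩ := orbPart_sound T hS B (fun y hy x hx => by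
    rw [← hmap] at hy
    obtain ⟨h, hh, rfl⟩ := hy
    exact hB h hh x hx) parts (1 <<< 0) {⟨0, hn⟩} (fun q => by
      rw [bget_eq, Nat.one_shiftLeft, Nat.testBit_two_pow]
      simp [eq_comm]) hp
  have h1 : B ∩ (({⟨0, hn⟩} : Finset (Fin n)) : Set (Fin n)) = {⟨0, hn⟩} := by
    rw [Finset.coe_singleton]; exact Set.inter_eq_right.mpr (Set.singleton_subset_iff.mpr h0)
  rw [h1, Set.ncard_singleton] at hc
  have hchk := (List.all_eq_true.mp hfree) s hs
  simp only [Bool.or_eq_true, Nat.beq_eq, Bool.not_eq_true'] at hchk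
  rcases hchk with (h | h) | h
  · left; omega
  · right; omega
  · rw [hc] at hdvd
    rw [Nat.mod_eq_zero_of_dvd hdvd] at h
    exact absurd h (by simp)

theorem map_wsub {cols : List ℕ} {T : PT Pr.gl.length n iv cols}
    {φ : Pr.Gp →* Equiv.Perm (Fin n)} (hA : Act T Pr.e φ) {S : List (List ℕ)}
    (hS : ∀ g ∈ S, ∀ l ∈ g, l < Pr.gl.length) :
    (Pr.wsub S).map φ = Subgroup.closure {y | ∃ g ∈ S, evalW (sig T) g = y} := by
  rw [Pres.wsub, MonoidHom.map_closure]
  congr 1
  ext y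
  constructor
  · rintro ⟨_, ⟨g, hg, rfl⟩, rfl⟩
    exact ⟨g, hg, (hA.evalW g (hS g hg)).symm⟩
  · rintro ⟨g, hg, rfl⟩
    exact ⟨_, ⟨g, hg, rfl⟩, hA.evalW g (hS g hg)⟩

/-- transitivity from the coset equivalence -/
theorem transitive_of_equiv {G : Type*} [Group G] {H : Subgroup G} {n : ℕ}
    {φ : G →* Equiv.Perm (Fin n)} (F : G ⧸ H ≃ Fin n)
    (hF : ∀ g : G, ∀ x : G ⧸ H, F (g • x) = φ g (F x)) (z i : Fin n) : ∃ g, φ g z = i := by
  have hreach : ∀ j, ∃ g, φ g (F (QuotientGroup.mk (1 : G))) = j := by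
    intro j
    obtain ⟨g, hg⟩ := QuotientGroup.mk_surjective (F.symm j)
    refine ⟨g, ?_⟩
    rw [← hF, MulAction.Quotient.smul_coe, smul_eq_mul, mul_one, hg, Equiv.apply_symm_apply]
  obtain ⟨g1, hg1⟩ := hreach i
  obtain ⟨g0, hg0⟩ := hreach z
  refine ⟨g1 * g0⁻¹, ?_⟩
  rw [map_mul, Equiv.Perm.mul_apply, map_inv, Equiv.Perm.inv_def,
    (Equiv.symm_apply_eq _).mpr hg0.symm, hg1]

theorem evalW_pow {G : Type*} [Group G] (e : ℕ → G) (m : ℕ) (w : List ℕ) :
    evalW e (List.replicate m w).flatten = evalW e w ^ m := by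
  induction m with
  | zero => simp [evalW]
  | succ m ih => rw [List.replicate_succ, List.flatten_cons, evalW_append, ih, pow_succ']

end Cfsg.Agent.H45
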