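import Cfsg.Agent.H45.CosetSound

/-!
The permutation action given by a checked table, the index theorem, orbits, orders.
-/

set_option autoImplicit false

namespace Cfsg.Agent.H45

theorem range_all {n : ℕ} {p : ℕ → Bool} (h : (List.range n).all p = true) {i : ℕ} (hi : i < n) :
    p i = true := (List.all_eq_true.mp h) i (List.mem_range.mpr hi)

theorem colOK_sound {c c' n : ℕ} : ∀ {m : ℕ}, colOK c c' n m = true →
    ∀ i, i < m → cget c i < n ∧ cget c' (cget c i) = i := by
  intro m
  induction m with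
  | zero => intro _ i hi; omega
  | succ m ih =>
    intro h i hi
    simp only [colOK, force_eq, Bool.and_eq_true, blt_iff, Nat.beq_eq] at h
    rcases Nat.lt_succ_iff_lt_or_eq.mp hi with hi | rfl
    · exact ih h.2 i hi
    · exact h.1

/-- relators can be checked in parts -/
theorem permCheck_append {L n : ℕ} {iv cols : List ℕ} {R₁ R₂ : List (List ℕ)}
    (h₁ : permCheck L n iv cols R₁ = true) (h₂ : permCheck L n iv cols R₂ = true) :
    permCheck L n iv cols (R₁ ++ R₂) = true := by
  simp only [permCheck, Bool.and_eq_true, List.all_append] at h₁ h₂ ⊢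
  exact ⟨h₁.1, h₁.2, h₂.2⟩

theorem fixAll_sound {cs : List ℕ} : ∀ {m : ℕ}, fixAll cs m = true →
    ∀ i, i < m → walkC cs i = i := by
  intro m
  induction m with
  | zero => intro _ i hi; omega
  | succ m ih =>
    intro h i hi
    simp only [fixAll, Bool.and_eq_true, Nat.beq_eq] at h
    rcases Nat.lt_succ_iff_lt_or_eq.mp hi with hi | rfl
    · exact ih h.2 i hi
    · exact h.1

/-- a table of `L` columns of `n` entries, forming an action -/
structure PT (L n : ℕ) (iv cols : List ℕ) : Prop where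
  inv_lt : ∀ l, l < L → linv iv l < L
  inv_inv : ∀ l, l < L → linv iv (linv iv l) = l
  lt : ∀ l, l < L → ∀ i, i < n → tget cols i l < n
  back : ∀ l, l < L → ∀ i, i < n → tget cols (tget cols i l) (linv iv l) = i

theorem permCheck_PT {L n : ℕ} {iv cols : List ℕ} {R : List (List ℕ)}
    (h : permCheck L n iv cols R = true) : PT L n iv cols := by
  unfold permCheck at h
  rw [Bool.and_eq_true] at h
  have hl : ∀ l, l < L → linv iv l < L ∧ linv iv (linv iv l) = l ∧
      ∀ i, i < n → tget cols i l < n ∧ tget cols (tget cols i l) (linv iv l) = i := by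
    intro l hl
    have := range_all h.1 hl
    simp only [Bool.and_eq_true, blt_iff, Nat.beq_eq] at this
    exact ⟨this.1.1, this.1.2, colOK_sound this.2⟩
  exact ⟨fun l hl' => (hl l hl').1, fun l hl' => (hl l hl').2.1,
    fun l hl' i hi => ((hl l hl').2.2 i hi).1, fun l hl' i hi => ((hl l hl').2.2 i hi).2⟩

/-- follow a word in a table -/
def walkT (cols : List ℕ) : List ℕ → ℕ → ℕ
  | [], p => p
  | l :: w, p => walkT cols w (tget cols p l)

theorem walkC_map (cols : List ℕ) : ∀ (w : List ℕ) (p : ℕ),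
    walkC (w.map fun l => cols.getD l 0) p = walkT cols w p := by
  intro w
  induction w with
  | nil => intro p; rfl
  | cons l w ih => intro p; simp only [List.map_cons, walkC, force_eq, walkT]; exact ih _

variable {L n : ℕ} {iv cols : List ℕ}

/-- the permutation of a letter: the inverse of the right action -/
def sig (P : PT L n iv cols) (l : ℕ) : Equiv.Perm (Fin n) :=
  if h : l < L then
    { toFun := fun i => ⟨tget cols i (linv iv l), P.lt _ (P.inv_lt l h) _ i.isLt⟩
      invFun := fun i => ⟨tget cols i l, P.lt _ h _ i.isLt⟩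
      left_inv := fun i => Fin.ext (by
        have := P.back _ (P.inv_lt l h) _ i.isLt
        rwa [P.inv_inv l h] at this)
      right_inv := fun i => Fin.ext (P.back _ h _ i.isLt) }
  else 1

theorem sig_inv (P : PT L n iv cols) {l : ℕ} (h : l < L) :
    sig P (linv iv l) = (sig P l)⁻¹ := by
  apply Equiv.ext; intro i
  rw [Equiv.Perm.inv_def]
  simp only [sig, h, P.inv_lt l h, dif_pos]
  apply Fin.ext
  simp [P.inv_inv l h]

theorem sig_walk (P : PT L n iv cols) : ∀ (w : List ℕ), (∀ l ∈ w, l < L) → ∀ i : Fin n,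
    ((evalW (sig P) w)⁻¹ i : ℕ) = walkT cols w i := by
  intro w
  induction w with
  | nil => intro _ i; simp [evalW, walkT]
  | cons l w ih =>
    intro hw i
    have hl : l < L := hw l (by simp)
    rw [evalW_cons, mul_inv_rev, Equiv.Perm.mul_apply,
      ih (fun x hx => hw x (by simp [hx])), walkT]
    congr 1
    rw [Equiv.Perm.inv_def]
    simp [sig, hl]

theorem permCheck_rel {R : List (List ℕ)} (h : permCheck L n iv cols R = true) :
    ∀ w ∈ R, evalW (sig (permCheck_PT h)) w = 1 := by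
  intro w hw
  have h' := h
  unfold permCheck at h'
  rw [Bool.and_eq_true] at h'
  have := (List.all_eq_true.mp h'.2) w hw
  simp only [Bool.and_eq_true, List.all_eq_true, blt_iff] at this
  rw [← inv_eq_one]
  apply Equiv.ext; intro i
  apply Fin.ext
  rw [sig_walk _ w this.1, ← walkC_map, fixAll_sound this.2 _ i.isLt]
  rfl

variable {G : Type*} [Group G]

/-- A homomorphism agreeing with a table on the letters. -/
structure Act (P : PT L n iv cols) (e : ℕ → G) (φ : G →* Equiv.Perm (Fin n)) : Prop where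
  map : ∀ l, l < L → φ (e l) = sig P l

theorem Act.evalW {P : PT L n iv cols} {e : ℕ → G} {φ : G →* Equiv.Perm (Fin n)}
    (hA : Act P e φ) : ∀ (w : List ℕ), (∀ l ∈ w, l < L) →
      φ (H45.evalW e w) = H45.evalW (sig P) w := by
  intro w
  induction w with
  | nil => intro _; simp [H45.evalW]
  | cons l w ih =>
    intro hw
    rw [evalW_cons, evalW_cons, map_mul, hA.map l (hw l (by simp)),
      ih (fun x hx => hw x (by simp [hx]))]

/-- subgroup words fix coset zero -/
noncomputable def fixZero (L : ℕ) (cols : List ℕ) (S : List (List ℕ)) : Bool :=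
  S.all fun w => w.all (fun l => Nat.blt l L) && Nat.beq (walkC (w.map fun l => cols.getD l 0) 0) 0

theorem fixZero_sound {P : PT L n iv cols} {e : ℕ → G} {φ : G →* Equiv.Perm (Fin n)}
    (hA : Act P e φ) (hn : 0 < n) {S : List (List ℕ)} (h : fixZero L cols S = true)
    {H : Subgroup G} (hH : H ≤ Subgroup.closure {g | ∃ w ∈ S, evalW e w = g})
    {g : G} (hg : g ∈ H) : φ g ⟨0, hn⟩ = ⟨0, hn⟩ := by
  have key : H ≤ (MulAction.stabilizer (Equiv.Perm (Fin n)) (⟨0, hn⟩ : Fin n)).comap φ := by
    refine hH.trans ((Subgroup.closure_le _).mpr ?_)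
    rintro _ ⟨w, hw, rfl⟩
    have := (List.all_eq_true.mp h) w hw
    simp only [Bool.and_eq_true, List.all_eq_true, blt_iff, Nat.beq_eq] at this
    rw [SetLike.mem_coe, Subgroup.mem_comap, MulAction.mem_stabilizer_iff, Equiv.Perm.smul_def,
      hA.evalW w this.1]
    rw [← Equiv.Perm.eq_inv_iff_eq]
    apply Fin.ext
    rw [sig_walk P w this.1, ← walkC_map]
    exact this.2.symm
  simpa using key hg

/-- closure under right multiplication -/
theorem cosets_exhaust {H E : Subgroup G} {e : ℕ → G}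
    (hE : E ≤ Subgroup.closure {g | ∃ l < L, e l = g})
    (hinv : ∀ l, l < L → linv iv l < L ∧ e (linv iv l) = (e l)⁻¹)
    (hT : ∀ l, l < L → ∀ i, i < n → tget cols i l < n) (hn : 0 < n)
    {w : ℕ → G} (hw0 : w 0 = 1)
    (hw : ∀ i, i < n → ∀ l, l < L → w i * e l * (w (tget cols i l))⁻¹ ∈ H) :
    ∀ g ∈ E, ∃ i, i < n ∧ g * (w i)⁻¹ ∈ H := by
  intro g hg
  have key : ∀ g ∈ Subgroup.closure {g | ∃ l < L, e l = g}, ∀ x,
      (∃ i, i < n ∧ x * (w i)⁻¹ ∈ H) → ∃ i, i < n ∧ x * g * (w i)⁻¹ ∈ H := by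
    intro g hg
    induction hg using Subgroup.closure_induction'' with
    | one => intro x hx; simpa using hx
    | mem g hg =>
      obtain ⟨l, hl, rfl⟩ := hg
      rintro x ⟨i, hi, hx⟩
      refine ⟨_, hT l hl i hi, ?_⟩
      have := H.mul_mem hx (hw i hi l hl)
      simpa [mul_assoc] using this
    | inv_mem g hg =>
      obtain ⟨l, hl, rfl⟩ := hg
      rintro x ⟨i, hi, hx⟩
      obtain ⟨hl', he⟩ := hinv l hl
      refine ⟨_, hT _ hl' i hi, ?_⟩
      have := H.mul_mem hx (hw i hi _ hl')
      rw [he] at this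
      simpa [mul_assoc] using this
    | mul a b _ _ iha ihb => intro x hx; simpa [mul_assoc] using ihb _ (iha x hx)
  simpa using key g (hE hg) 1 ⟨0, hn, by simp [hw0]⟩

/-- upper bound for the order from a closed table -/
theorem card_le_of_cosets {H E : Subgroup G} {w : ℕ → G} {m : ℕ} [Finite H]
    (hw : ∀ g ∈ E, ∃ i, i < n ∧ g * (w i)⁻¹ ∈ H) (hm : Nat.card H ≤ m) :
    Finite E ∧ Nat.card E ≤ n * m := by
  choose f hf hfH using hw
  let F : E → Fin n × H := fun g => (⟨f g.1 g.2, hf _ _⟩, ⟨_, hfH g.1 g.2⟩)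
  have hF : Function.Injective F := by
    intro a b hab
    simp only [F, Prod.mk.injEq, Fin.mk.injEq, Subtype.mk.injEq] at hab
    rw [hab.1] at hab
    exact Subtype.ext (mul_right_cancel hab.2)
  refine ⟨Finite.of_injective F hF, ?_⟩
  calc Nat.card E ≤ Nat.card (Fin n × H) := Nat.card_le_card_of_injective F hF
    _ = n * Nat.card H := by simp [Nat.card_prod]
    _ ≤ n * m := Nat.mul_le_mul_left _ hm

/-- cosets of a subgroup correspond to the points of the table -/
theorem cosetEquiv {H : Subgroup G} {e : ℕ → G} {P : PT L n iv cols}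
    {φ : G →* Equiv.Perm (Fin n)} (hA : Act P e φ) (hn : 0 < n)
    (hinv : ∀ l, l < L → e (linv iv l) = (e l)⁻¹)
    (hgen : Subgroup.closure {g | ∃ l < L, e l = g} = ⊤)
    (hfix : ∀ h ∈ H, φ h ⟨0, hn⟩ = ⟨0, hn⟩)
    (htr : ∀ x, 0 < x → x < n → ∃ p l, p < x ∧ l < L ∧ tget cols p l = x)
    {w : ℕ → G} (hw0 : w 0 = 1)
    (hw : ∀ i, i < n → ∀ l, l < L → w i * e l * (w (tget cols i l))⁻¹ ∈ H) :
    ∃ F : G ⧸ H ≃ Fin n, F (QuotientGroup.mk (1 : G)) = ⟨0, hn⟩ ∧
      ∀ g : G, ∀ x : G ⧸ H, F (g • x) = φ g (F x) := by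
  have hwi : ∀ i (hi : i < n), φ ((w i)⁻¹) ⟨0, hn⟩ = ⟨i, hi⟩ := by
    intro i
    induction i using Nat.strong_induction_on with
    | _ i ih =>
      intro hi
      rcases Nat.eq_zero_or_pos i with rfl | hi0
      · simp [hw0]
      obtain ⟨p, l, hp, hl, hpl⟩ := htr i hi0 hi
      have hpn : p < n := lt_trans hp hi
      have h2 := hfix _ (hw p hpn l hl)
      rw [map_mul, map_mul, Equiv.Perm.mul_apply, Equiv.Perm.mul_apply] at h2
      have h3 := congrArg (fun z => (φ (e l))⁻¹ ((φ (w p))⁻¹ z)) h2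
      simp only [Equiv.Perm.inv_def, Equiv.symm_apply_apply] at h3
      have h4 : (φ (w p)).symm ⟨0, hn⟩ = ⟨p, hpn⟩ := by
        have := ih p hp hpn
        rwa [map_inv, Equiv.Perm.inv_def] at this
      rw [h4, hpl] at h3
      rw [h3]
      apply Fin.ext
      simp [hA.map l hl, sig, hl, hpl]
  let F0 : G ⧸ H → Fin n := Quotient.lift (fun g : G => φ g ⟨0, hn⟩) (by
    intro a b hab
    have h : a⁻¹ * b ∈ H := QuotientGroup.leftRel_apply.mp hab
    have h2 := hfix _ h
    rw [map_mul, Equiv.Perm.mul_apply, map_inv, Equiv.Perm.inv_def, Equiv.symm_apply_eq] at h2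
    exact h2.symm)
  have hsurj : Function.Surjective F0 := fun i =>
    ⟨QuotientGroup.mk ((w i)⁻¹), hwi i i.isLt⟩
  have hinj : Function.Injective F0 := by
    intro x y
    induction x using QuotientGroup.induction_on with
    | _ a =>
    induction y using QuotientGroup.induction_on with
    | _ b =>
      intro h
      change φ a ⟨0, hn⟩ = φ b ⟨0, hn⟩ at h
      obtain ⟨i, hi, hiH⟩ := cosets_exhaust (E := ⊤) (iv := iv) hgen.ge
        (fun l hl => ⟨P.inv_lt l hl, hinv l hl⟩) P.lt hn hw0 hw (a⁻¹ * b) (Subgroup.mem_top _)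
      have h2 := hfix _ hiH
      rw [map_mul, map_mul, map_inv φ a, Equiv.Perm.mul_apply, Equiv.Perm.mul_apply,
        hwi i hi, Equiv.Perm.inv_def, Equiv.symm_apply_eq, h] at h2
      have h3 : i = 0 := congrArg Fin.val ((φ b).injective h2)
      subst h3
      exact QuotientGroup.eq.mpr (by simpa [hw0] using hiH)
  refine ⟨Equiv.ofBijective F0 ⟨hinj, hsurj⟩, ?_, fun g x => ?_⟩
  · change φ 1 ⟨0, hn⟩ = ⟨0, hn⟩
    rw [map_one, Equiv.Perm.one_apply]
  induction x using QuotientGroup.induction_on with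
  | _ a =>
    change φ (g * a) ⟨0, hn⟩ = φ g (φ a ⟨0, hn⟩)
    rw [map_mul, Equiv.Perm.mul_apply]

end Cfsg.Agent.H45
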