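import Cfsg.Agent.H45.CosetGroup

/-!
Derived relators and order bounds in alphabets of words.
-/

set_option autoImplicit false

namespace Cfsg.Agent.H45

variable {Gen : Type} [DecidableEq Gen] {P : Pres Gen}

/-- a derivation of `w = 1` by insertion of relators -/
noncomputable def relCheck (D : Dat) (w ops : List ℕ) : Bool :=
  insOps D ops w [] fun stk => stk.isEmpty

theorem relCheck_sound {G : Type*} [Group G] {D : Dat} {e : ℕ → G} {H : Subgroup G}
    (hD : Hyp D e H) {w ops : List ℕ} (h : relCheck D w ops = true) : evalW e w = 1 := by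
  obtain ⟨stk, h1, h2⟩ := insOps_sound hD _ _ _ _ h
  rw [List.isEmpty_iff] at h1
  subst h1
  simpa [evalW] using h2.symm

/-- words proved trivial by derivations -/
theorem Pres.OK.derived (h : P.OK) {ds : List (List ℕ × List ℕ)}
    (hc : (ds.all fun d => relCheck ⟨P.gl.length, List.range P.gl.length, [], P.R, []⟩ d.1 d.2) = true) :
    ∀ w ∈ P.R ++ ds.map Prod.fst, evalW P.e w = 1 := by
  intro w hw
  rcases List.mem_append.mp hw with hw | hw
  · exact h.rel w hw
  · obtain ⟨d, hd, rfl⟩ := List.mem_map.mp hw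
    exact relCheck_sound (H := ⊥) ⟨h.e_inv _, h.rel, fun w hw => by simp at hw⟩
      ((List.all_eq_true.mp hc) d hd)

/-- expand a word in an alphabet of words -/
def expandW (ws : List (List ℕ)) (w : List ℕ) : List ℕ := w.flatMap fun l => ws.getD l []

theorem evalW_expand {G : Type*} [Group G] (e : ℕ → G) (ws : List (List ℕ)) :
    ∀ w : List ℕ, evalW e (expandW ws w) = evalW (fun l => evalW e (ws.getD l [])) w := by
  intro w
  induction w with
  | nil => rfl
  | cons x w ih =>
    rw [evalW_cons, ← ih, ← evalW_append]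
    rfl

/-- one step of an order bound, in an alphabet of words -/
theorem Pres.OK.wbound (h : P.OK) {Rd : List (List ℕ)} (hRd : ∀ w ∈ Rd, evalW P.e w = 1)
    {D : Dat} {n m : ℕ} {ws vs : List (List ℕ)} {tree : List ℕ} {bs : List Blk}
    (hL : D.L = ws.length) (hiv : D.iv = List.range ws.length)
    (hinvW : (ws.all fun u => decide (u ++ u ∈ Rd)) = true)
    (hR : (D.R.all fun w => decide (expandW ws w ∈ Rd)) = true)
    (hS : (D.S.all fun w => w.all fun l => decide (ws.getD l [] ∈ vs)) = true)
    (hT : ∀ l, l < D.L → ∀ i, i < n → tget D.cols i l < n) (hn : 0 < n)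
    (hc : closeCheck D n tree bs = true)
    (hm : Finite (P.wsub vs) ∧ Nat.card (P.wsub vs) ≤ m) :
    Finite (P.wsub ws) ∧ Nat.card (P.wsub ws) ≤ n * m := by
  let e : ℕ → P.Gp := fun l => evalW P.e (ws.getD l [])
  have hinv : ∀ l, e (linv D.iv l) = (e l)⁻¹ := by
    intro l
    rw [hiv, linv_range]
    rcases Nat.lt_or_ge l ws.length with hl | hl
    · apply eq_inv_of_mul_eq_one_left
      change evalW P.e (ws.getD l []) * evalW P.e (ws.getD l []) = 1
      rw [← evalW_append]
      refine hRd _ (of_decide_eq_true ((List.all_eq_true.mp hinvW) _ ?_))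
      rw [List.getD_eq_getElem _ _ hl]; exact List.getElem_mem hl
    · have : e l = 1 := by
        change evalW P.e (ws.getD l []) = 1
        rw [List.getD_eq_getElem?_getD, List.getElem?_eq_none hl]; rfl
      rw [this, inv_one]
  have hD : Hyp D e (P.wsub vs) := by
    refine ⟨hinv, fun w hw => ?_, fun w hw => ?_⟩
    · rw [← evalW_expand]
      exact hRd _ (of_decide_eq_true ((List.all_eq_true.mp hR) w hw))
    · apply list_prod_mem
      intro x hx
      obtain ⟨l, hl, rfl⟩ := List.mem_map.mp hx
      exact Subgroup.subset_closure ⟨_,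
        of_decide_eq_true ((List.all_eq_true.mp ((List.all_eq_true.mp hS) w hw)) l hl), rfl⟩
  have hE : ∀ l, l < D.L → e l ∈ P.wsub ws := by
    intro l hl
    refine Subgroup.subset_closure ⟨_, ?_, rfl⟩
    rw [hL] at hl
    rw [List.getD_eq_getElem _ _ hl]
    exact List.getElem_mem hl
  obtain ⟨-, w, hw0, -, hw⟩ := closeCheck_sound hD hE hc
  have := hm.1
  refine card_le_of_cosets (w := w)
    (cosets_exhaust (e := e) (iv := D.iv) ?_ (fun l hl => ⟨?_, hinv l⟩) hT hn hw0 hw) hm.2
  · refine (Subgroup.closure_le _).mpr ?_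
    rintro _ ⟨x, hx, rfl⟩
    obtain ⟨k, hk, rfl⟩ := List.getElem_of_mem hx
    refine Subgroup.subset_closure ⟨k, hL ▸ hk, ?_⟩
    change evalW P.e (ws.getD k []) = evalW P.e ws[k]
    rw [List.getD_eq_getElem _ _ hk]
  · rw [hiv, linv_range]; exact hl

theorem Pres.wsub_nil_card : Finite (P.wsub []) ∧ Nat.card (P.wsub []) ≤ 1 := by
  have : P.wsub [] = ⊥ := by simp [Pres.wsub]
  rw [this]
  exact ⟨inferInstance, le_of_eq Subgroup.card_bot⟩

end Cfsg.Agent.H45
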