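import Cfsg.Agent.H45.CosetPerm

/-!
Orbit and stabiliser-chain certificates in a checked table.
-/

set_option autoImplicit false

open scoped Pointwise

namespace Cfsg.Agent.H45

/-- one orbit step: parent point and generator number -/
noncomputable def orbStep (n : ℕ) (gens : List (List ℕ)) (K v : ℕ) (k : ℕ → Bool) : Bool :=
  force (v >>> 8) fun p =>
    force (walkC (gens.getD (v &&& 255) []) p) fun q =>
      bget K p && !bget K q && Nat.blt q n && Nat.blt (v &&& 255) gens.length &&
        force (K ||| (1 <<< q)) k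

/-- a chunk of orbit steps (24 bits each, nonzero, terminated by zero) -/
noncomputable def orbChunk (n : ℕ) (gens : List (List ℕ)) :
    ℕ → ℕ → ℕ → ℕ → (ℕ → ℕ → Bool) → Bool
  | 0, _, _, _, _ => false
  | fuel + 1, c, K, m, k =>
    bif Nat.beq c 0 then k K m
    else orbStep n gens K (dec24 c) fun K' =>
      force (c >>> 24) fun c' => force (m + 1) fun m' => orbChunk n gens fuel c' K' m' k

/-- all orbit chunks -/
noncomputable def orbAll (n : ℕ) (gens : List (List ℕ)) :
    List ℕ → ℕ → ℕ → (ℕ → ℕ → Bool) → Bool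
  | [], K, m, k => k K m
  | c :: cs, K, m, k => orbChunk n gens chunkFuel c K m fun K' m' => orbAll n gens cs K' m' k

/-- the set is closed under all generators -/
noncomputable def orbClosed (gens : List (List ℕ)) (K : ℕ) : ℕ → Bool
  | 0 => true
  | i + 1 => ((!bget K i) || gens.all fun g => bget K (walkC g i)) && orbClosed gens K i

/-- `b` has at least `count` points in its orbit -/
noncomputable def orbLow (n : ℕ) (cols : List ℕ) (gens : List (List ℕ)) (b count : ℕ)
    (steps : List ℕ) : Bool :=
  Nat.blt b n && orbAll n (gens.map fun g => g.map fun l => cols.getD l 0) steps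
    (0 ||| (1 <<< b)) 1 fun _ m => Nat.beq m count

/-- `b` has exactly `count` points in its orbit -/
noncomputable def orbExact (n : ℕ) (cols : List ℕ) (gens : List (List ℕ)) (b count : ℕ)
    (steps : List ℕ) : Bool :=
  Nat.blt b n && orbAll n (gens.map fun g => g.map fun l => cols.getD l 0) steps
    (0 ||| (1 <<< b)) 1 fun K m =>
      Nat.beq m count && orbClosed (gens.map fun g => g.map fun l => cols.getD l 0) K n

variable {L n : ℕ} {iv cols : List ℕ}

/-- the invariant of an orbit search -/
def OInv (P : PT L n iv cols) (gens : List (List ℕ)) (b : Fin n) (K m : ℕ) : Prop :=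
  ∃ s : Finset (Fin n), s.card = m ∧ b ∈ s ∧
    (∀ q : ℕ, bget K q = true ↔ ∃ x ∈ s, (x : ℕ) = q) ∧
    ∀ Y : Subgroup (Equiv.Perm (Fin n)), (∀ g ∈ gens, evalW (sig P) g ∈ Y) →
      ∀ x ∈ s, x ∈ MulAction.orbit Y b

theorem orbit_closed_step {Y : Subgroup (Equiv.Perm (Fin n))} {b x : Fin n}
    {y : Equiv.Perm (Fin n)} (hy : y ∈ Y) (hx : x ∈ MulAction.orbit Y b) :
    y x ∈ MulAction.orbit Y b := by
  obtain ⟨⟨z, hz⟩, rfl⟩ := hx
  exact ⟨⟨y * z, Y.mul_mem hy hz⟩, rfl⟩

theorem gensCols_getD (gens : List (List ℕ)) (g : ℕ) :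
    (gens.map fun g => g.map fun l => cols.getD l 0).getD g [] =
      (gens.getD g []).map fun l => cols.getD l 0 := by
  simp only [List.getD_eq_getElem?_getD, List.getElem?_map]
  cases gens[g]? <;> rfl

theorem orbStep_sound (P : PT L n iv cols) {gens : List (List ℕ)}
    (hg : ∀ g ∈ gens, ∀ l ∈ g, l < L) {b : Fin n} {K m v : ℕ} {k : ℕ → Bool}
    (hK : OInv P gens b K m)
    (h : orbStep n (gens.map fun g => g.map fun l => cols.getD l 0) K v k = true) :
    ∃ K', k K' = true ∧ OInv P gens b K' (m + 1) := by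
  unfold orbStep at h
  simp only [force_eq, Bool.and_eq_true, Bool.not_eq_true', blt_iff, List.length_map] at h
  obtain ⟨⟨⟨⟨hp, hq⟩, hqn⟩, hvg⟩, hk⟩ := h
  rw [gensCols_getD, walkC_map] at hq hqn hk
  obtain ⟨s, hcard, hb, hbit, hY⟩ := hK
  obtain ⟨x, hx, hxp⟩ := (hbit _).mp hp
  have hmem : gens.getD (v &&& 255) [] ∈ gens := by
    rw [List.getD_eq_getElem _ _ hvg]; exact List.getElem_mem hvg
  let q : Fin n := ⟨_, hqn⟩
  have hqs : q ∉ s := by
    intro hqs
    rw [(hbit _).mpr ⟨q, hqs, rfl⟩] at hq
    exact absurd hq (by simp)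
  refine ⟨_, hk, insert q s, by rw [Finset.card_insert_of_notMem hqs, hcard],
    Finset.mem_insert_of_mem hb, fun z => ?_, ?_⟩
  · simp only [bget_set, Bool.or_eq_true, decide_eq_true_eq, Finset.exists_mem_insert, hbit]
    exact ⟨fun h => h.symm, fun h => h.symm⟩
  · intro Y hgY z hz
    rcases Finset.mem_insert.mp hz with rfl | hz
    · have : q = (evalW (sig P) (gens.getD (v &&& 255) []))⁻¹ x := by
        apply Fin.ext
        rw [sig_walk P _ (hg _ hmem) x, hxp]
      rw [this]
      exact orbit_closed_step (Y.inv_mem (hgY _ hmem)) (hY Y hgY x hx)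
    · exact hY Y hgY z hz

theorem orbChunk_sound (P : PT L n iv cols) {gens : List (List ℕ)}
    (hg : ∀ g ∈ gens, ∀ l ∈ g, l < L) {b : Fin n} :
    ∀ (fuel c K m : ℕ) (k : ℕ → ℕ → Bool), OInv P gens b K m →
      orbChunk n (gens.map fun g => g.map fun l => cols.getD l 0) fuel c K m k = true →
        ∃ K' m', k K' m' = true ∧ OInv P gens b K' m' := by
  intro fuel
  induction fuel with
  | zero => intro c K m k _ h; simp [orbChunk] at h
  | succ fuel ih =>
    intro c K m k hK h
    unfold orbChunk at h
    cases hb : Nat.beq c 0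
    · simp only [hb, cond_false] at h
      obtain ⟨K', hk, hK'⟩ := orbStep_sound P hg hK h
      simp only [force_eq] at hk
      exact ih _ _ _ _ hK' hk
    · simp only [hb, cond_true] at h
      exact ⟨K, m, h, hK⟩

theorem orbAll_sound (P : PT L n iv cols) {gens : List (List ℕ)}
    (hg : ∀ g ∈ gens, ∀ l ∈ g, l < L) {b : Fin n} :
    ∀ (cs : List ℕ) (K m : ℕ) (k : ℕ → ℕ → Bool), OInv P gens b K m →
      orbAll n (gens.map fun g => g.map fun l => cols.getD l 0) cs K m k = true →
        ∃ K' m', k K' m' = true ∧ OInv P gens b K' m' := by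
  intro cs
  induction cs with
  | nil => intro K m k hK h; exact ⟨K, m, h, hK⟩
  | cons c cs ih =>
    intro K m k hK h
    simp only [orbAll] at h
    obtain ⟨K', m', h', hK'⟩ := orbChunk_sound P hg _ _ _ _ _ hK h
    exact ih _ _ _ hK' h'

theorem OInv_init (P : PT L n iv cols) (gens : List (List ℕ)) (b : Fin n) :
    OInv P gens b (0 ||| (1 <<< (b : ℕ))) 1 := by
  refine ⟨{b}, rfl, Finset.mem_singleton_self b, fun q => ?_, fun Y _ x hx => ?_⟩
  · rw [bget_set, bget_eq]; simp
  · rw [Finset.mem_singleton] at hx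
    subst hx; exact MulAction.mem_orbit_self _

theorem orbLow_sound (P : PT L n iv cols) {gens : List (List ℕ)}
    (hg : ∀ g ∈ gens, ∀ l ∈ g, l < L) {b count : ℕ} {steps : List ℕ}
    (h : orbLow n cols gens b count steps = true) :
    ∃ hb : b < n, ∀ Y : Subgroup (Equiv.Perm (Fin n)), (∀ g ∈ gens, evalW (sig P) g ∈ Y) →
      count ≤ Nat.card (MulAction.orbit Y (⟨b, hb⟩ : Fin n)) := by
  unfold orbLow at h
  simp only [Bool.and_eq_true, blt_iff] at h
  obtain ⟨hb, h'⟩ := h
  obtain ⟨K, m, hm, s, hcard, -, -, hY⟩ :=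
    orbAll_sound P hg _ _ _ _ (OInv_init P gens ⟨b, hb⟩) h'
  simp only [Nat.beq_eq] at hm
  refine ⟨hb, fun Y hgY => ?_⟩
  rw [← hm, ← hcard, ← Nat.card_eq_finsetCard]
  exact Nat.card_le_card_of_injective (fun x => ⟨x.1, hY Y hgY x.1 x.2⟩)
    (fun x y hxy => Subtype.ext (congrArg (fun z : MulAction.orbit Y _ => (z : Fin n)) hxy))

theorem orbClosed_sound {gens : List (List ℕ)} {K : ℕ} :
    ∀ {m : ℕ}, orbClosed gens K m = true →
      ∀ i, i < m → bget K i = true → ∀ g ∈ gens, bget K (walkC g i) = true := by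
  intro m
  induction m with
  | zero => intro _ i hi; omega
  | succ m ih =>
    intro h i hi
    simp only [orbClosed, Bool.and_eq_true] at h
    rcases Nat.lt_succ_iff_lt_or_eq.mp hi with hi | rfl
    · exact ih h.2 i hi
    · intro hK g hg
      rw [hK] at h
      simpa using (List.all_eq_true.mp (by simpa using h.1)) g hg

theorem orbExact_sound (P : PT L n iv cols) {gens : List (List ℕ)}
    (hg : ∀ g ∈ gens, ∀ l ∈ g, l < L) {b count : ℕ} {steps : List ℕ}
    (h : orbExact n cols gens b count steps = true) :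
    ∃ hb : b < n, (MulAction.orbit (Subgroup.closure {y | ∃ g ∈ gens, evalW (sig P) g = y})
      (⟨b, hb⟩ : Fin n)).ncard = count := by
  unfold orbExact at h
  simp only [Bool.and_eq_true, blt_iff] at h
  obtain ⟨hb, h'⟩ := h
  obtain ⟨K, m, hm, s, hcard, hbs, hbit, hY⟩ :=
    orbAll_sound P hg _ _ _ _ (OInv_init P gens ⟨b, hb⟩) h'
  simp only [Bool.and_eq_true, Nat.beq_eq] at hm
  refine ⟨hb, ?_⟩
  rw [← hm.1, ← hcard, ← Set.ncard_coe_finset]
  congr 1
  apply Set.Subset.antisymm
  · have hcl : ∀ g ∈ gens, ∀ x ∈ s, (evalW (sig P) g)⁻¹ x ∈ s := by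
      intro g hgm x hx
      have := orbClosed_sound hm.2 x x.isLt ((hbit _).mpr ⟨x, hx, rfl⟩)
        (g.map fun l => cols.getD l 0) (List.mem_map.mpr ⟨g, hgm, rfl⟩)
      rw [walkC_map, ← sig_walk P g (hg g hgm) x] at this
      obtain ⟨z, hz, hzx⟩ := (hbit _).mp this
      rwa [← Fin.ext hzx]
    let St : Subgroup (Equiv.Perm (Fin n)) :=
      MulAction.stabilizer (Equiv.Perm (Fin n)) (s : Set (Fin n))
    have hle : Subgroup.closure {y | ∃ g ∈ gens, evalW (sig P) g = y} ≤ St := by
      rw [Subgroup.closure_le]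
      rintro _ ⟨g, hgm, rfl⟩
      have hinvmem : (evalW (sig P) g)⁻¹ ∈ St := by
        rw [MulAction.mem_stabilizer_iff]
        refine Set.eq_of_subset_of_ncard_le ?_ (le_of_eq ?_) (Set.toFinite _)
        · rintro _ ⟨x, hx, rfl⟩
          exact Finset.mem_coe.mpr (hcl g hgm x hx)
        · exact (Set.ncard_image_of_injective _ (MulAction.injective _)).symm
      simpa using St.inv_mem hinvmem
    rintro _ ⟨⟨y, hy⟩, rfl⟩
    have := hle hy
    rw [MulAction.mem_stabilizer_iff] at this
    have h2 : y • (⟨b, hb⟩ : Fin n) ∈ y • (s : Set (Fin n)) := Set.smul_mem_smul_set hbs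
    rw [this] at h2
    exact h2
  · intro x hx
    exact hY (Subgroup.closure {y | ∃ g ∈ gens, evalW (sig P) g = y})
      (fun g hgm => Subgroup.subset_closure ⟨g, hgm, rfl⟩) x hx

/-! ### stabiliser chains -/

/-- one level of a stabiliser chain certificate -/
structure Lvl where
  base : ℕ
  gens : List (List ℕ)
  count : ℕ
  steps : List ℕ

/-- the check of a stabiliser chain -/
noncomputable def chainCheck (L n : ℕ) (cols : List ℕ) : List Lvl → Bool
  | [] => true
  | lv :: rest =>
    lv.gens.all (fun g => g.all fun l => Nat.blt l L) &&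
      rest.all (fun lv' => lv'.gens.all fun g =>
        Nat.beq (walkC (g.map fun l => cols.getD l 0) lv.base) lv.base) &&
      orbLow n cols lv.gens lv.base lv.count lv.steps && chainCheck L n cols rest

/-- the product of the orbit lengths of a chain -/
def chainProd : List Lvl → ℕ
  | [] => 1
  | lv :: rest => lv.count * chainProd rest

/-- a chain can be checked level by level -/
theorem chainCheck_cons {cols' : List ℕ} {lv : Lvl} {rest : List Lvl}
    (h1 : (lv.gens.all fun g => g.all fun l => Nat.blt l L) = true)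
    (h2 : (rest.all fun lv' => lv'.gens.all fun g =>
      Nat.beq (walkC (g.map fun l => cols'.getD l 0) lv.base) lv.base) = true)
    (h3 : orbLow n cols' lv.gens lv.base lv.count lv.steps = true)
    (h4 : chainCheck L n cols' rest = true) : chainCheck L n cols' (lv :: rest) = true := by
  simp only [chainCheck, h1, h2, h3, h4, Bool.and_self]

theorem chainCheck_letters {cols' : List ℕ} : ∀ {lvs : List Lvl},
    chainCheck L n cols' lvs = true → ∀ lv ∈ lvs, ∀ g ∈ lv.gens, ∀ l ∈ g, l < L := by
  intro lvs
  induction lvs with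
  | nil => intro _ lv h; simp at h
  | cons a rest ih =>
    intro h
    simp only [chainCheck, Bool.and_eq_true, List.all_eq_true, blt_iff] at h
    intro lv hlv
    rcases List.mem_cons.mp hlv with rfl | hlv
    · exact h.1.1.1
    · exact ih h.2 lv hlv

theorem chainCheck_sound (P : PT L n iv cols) : ∀ {lvs : List Lvl},
    chainCheck L n cols lvs = true → ∀ Y : Subgroup (Equiv.Perm (Fin n)),
      (∀ lv ∈ lvs, ∀ g ∈ lv.gens, evalW (sig P) g ∈ Y) → chainProd lvs ≤ Nat.card Y := by
  intro lvs
  induction lvs with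
  | nil => intro _ Y _; exact Nat.card_pos
  | cons lv rest ih =>
    intro h Y hY
    have hlet := chainCheck_letters h
    simp only [chainCheck, Bool.and_eq_true] at h
    obtain ⟨⟨⟨-, hfix⟩, horb⟩, hrest⟩ := h
    obtain ⟨hb, hcount⟩ := orbLow_sound P (hlet lv List.mem_cons_self) horb
    let b : Fin n := ⟨lv.base, hb⟩
    have h1 : chainProd rest ≤ Nat.card (Y ⊓ MulAction.stabilizer _ b : Subgroup _) := by
      refine ih hrest _ fun lv' hlv' g hg => Subgroup.mem_inf.mpr
        ⟨hY lv' (List.mem_cons_of_mem _ hlv') g hg, ?_⟩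
      have h2 := (List.all_eq_true.mp ((List.all_eq_true.mp hfix) lv' hlv')) g hg
      simp only [Nat.beq_eq] at h2
      rw [MulAction.mem_stabilizer_iff, Equiv.Perm.smul_def, ← Equiv.Perm.eq_inv_iff_eq]
      apply Fin.ext
      rw [sig_walk P g (hlet lv' (List.mem_cons_of_mem _ hlv') g hg), ← walkC_map]
      exact h2.symm
    have h2 : Nat.card (MulAction.orbit Y b) * Nat.card (MulAction.stabilizer Y b) = Nat.card Y := by
      rw [← Nat.card_prod]
      exact Nat.card_congr (MulAction.orbitProdStabilizerEquivGroup Y b)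
    have h3 : Nat.card (MulAction.stabilizer Y b) =
        Nat.card (Y ⊓ MulAction.stabilizer (Equiv.Perm (Fin n)) b : Subgroup _) := by
      refine Nat.card_congr ⟨fun x => ⟨x.1.1, x.1.2, x.2⟩, fun x => ⟨⟨x.1, x.2.1⟩, x.2.2⟩,
        fun _ => rfl, fun _ => rfl⟩
    rw [← h2, h3]
    exact Nat.mul_le_mul (hcount Y fun g hg => hY lv List.mem_cons_self g hg) h1

/-- a column records the effect of a list of columns -/
noncomputable def colEq (cs : List ℕ) (P n : ℕ) : ℕ → Bool
  | 0 => true
  | i + 1 => force (walkC cs i) (fun q => Nat.beq q (cget P i) && Nat.blt q n) && colEq cs P n i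

theorem colEq_sound {cs : List ℕ} {P n : ℕ} : ∀ {m : ℕ}, colEq cs P n m = true →
    ∀ i, i < m → walkC cs i = cget P i ∧ cget P i < n := by
  intro m
  induction m with
  | zero => intro _ i hi; omega
  | succ m ih =>
    intro h i hi
    simp only [colEq, force_eq, Bool.and_eq_true, blt_iff, Nat.beq_eq] at h
    rcases Nat.lt_succ_iff_lt_or_eq.mp hi with hi | rfl
    · exact ih h.2 i hi
    · exact ⟨h.1.1, h.1.1 ▸ h.1.2⟩

theorem walkC_append : ∀ (a b : List ℕ) (i : ℕ), walkC (a ++ b) i = walkC b (walkC a i) := by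
  intro a
  induction a with
  | nil => intro b i; rfl
  | cons c a ih => intro b i; simp only [List.cons_append, walkC, force_eq]; exact ih _ _

theorem fixAll_of_forall {cs : List ℕ} : ∀ {m : ℕ}, (∀ i, i < m → walkC cs i = i) →
    fixAll cs m = true := by
  intro m
  induction m with
  | zero => intro _; rfl
  | succ m ih =>
    intro h
    simp only [fixAll, Bool.and_eq_true, Nat.beq_eq]
    exact ⟨h m (Nat.lt_succ_self m), ih fun i hi => h i (Nat.lt_succ_of_lt hi)⟩

/-- a power of a word fixes every point, computed from the column of the word -/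
theorem fixAll_pow {n L k P : ℕ} {cols w : List ℕ}
    (hl : (w.all fun l => Nat.blt l L) = true)
    (hP : colEq (w.map fun l => cols.getD l 0) P n n = true)
    (hk : fixAll (List.replicate k P) n = true) :
    ((List.replicate k w).flatten.all (fun l => Nat.blt l L) &&
      fixAll ((List.replicate k w).flatten.map fun l => cols.getD l 0) n) = true := by
  rw [Bool.and_eq_true]
  constructor
  · rw [List.all_eq_true]
    intro l hlm
    obtain ⟨u, hu, hl'⟩ := List.mem_flatten.mp hlm
    rw [(List.mem_replicate.mp hu).2] at hl'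
    exact List.all_eq_true.mp hl l hl'
  · refine fixAll_of_forall fun i hi => ?_
    have key : ∀ (j i : ℕ), i < n →
        walkC ((List.replicate j w).flatten.map fun l => cols.getD l 0) i =
          walkC (List.replicate j P) i := by
      intro j
      induction j with
      | zero => intro i _; simp
      | succ j ih =>
        intro i hi
        obtain ⟨h1, h2⟩ := colEq_sound hP i hi
        rw [List.replicate_succ, List.flatten_cons, List.map_append, walkC_append, h1, ih _ h2,
          List.replicate_succ]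
        simp only [walkC, force_eq]
    rw [key k i hi]
    exact fixAll_sound hk i hi

end Cfsg.Agent.H45
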