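import Mathlib

/-!
Kernel-checkable coset-table certificates.

A table is given by one packed natural number per letter (16 bits per coset).  Letters are natural
numbers `< L`, with a formal inverse given by the list `iv`.  A certificate consists of a spanning
tree, single-gap relator scans and insertion derivations for the remaining edges.
-/

set_option autoImplicit false

namespace Cfsg.Agent.H45

/-- continuation-passing evaluation of a natural number to a literal -/
noncomputable def force {α : Type} (x : ℕ) (f : ℕ → α) : α :=
  Nat.rec (motive := fun _ => α) (f 0) (fun k _ => f (Nat.succ k)) x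

theorem force_eq {α : Type} (x : ℕ) (f : ℕ → α) : force x f = f x := by
  cases x <;> rfl

/-- entry `i` of a packed column -/
def cget (c i : ℕ) : ℕ := (c >>> (i * 16)) &&& 65535

/-- entry of the table -/
def tget (cols : List ℕ) (i l : ℕ) : ℕ := cget (cols.getD l 0) i

/-- formal inverse of a letter -/
def linv (iv : List ℕ) (l : ℕ) : ℕ := iv.getD l l

/-- formal inverse of a word -/
def winv (iv : List ℕ) (w : List ℕ) : List ℕ := (w.map (linv iv)).reverse

/-- bit test -/
def bget (K e : ℕ) : Bool := Nat.beq ((K >>> e) &&& 1) 1

/-- the fixed data of a certificate -/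
structure Dat where
  L : ℕ
  iv : List ℕ
  cols : List ℕ
  R : List (List ℕ)
  S : List (List ℕ)

/-- test an edge: edges are stored above the 64 low bits, which only keep the sets apart -/
def egt (K e : ℕ) : Bool := bget K (e + 64)

/-- mark the edge `(i, l)` and its inverse as known -/
noncomputable def setEdge (D : Dat) (K i l : ℕ) (k : ℕ → Bool) : Bool :=
  force (tget D.cols i l) fun j =>
    Nat.blt l D.L && Nat.blt (linv D.iv l) D.L && Nat.beq (tget D.cols j (linv D.iv l)) i &&
      force ((K ||| (1 <<< (i * D.L + l + 64)) ||| (1 <<< (j * D.L + linv D.iv l + 64))) ^^^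
        ((i * D.L + l + 1) * 11400714819323198485 % 18446744073709551616)) k

/-- fuel for one chunk of packed steps -/
def chunkFuel : ℕ := 200

/-- follow a path of known edges -/
noncomputable def walkK (D : Dat) (K : ℕ) : List ℕ → ℕ → (ℕ → Bool) → Bool
  | [], p, k => k p
  | m :: w, p, k =>
    Nat.blt m D.L && egt K (p * D.L + m) && force (tget D.cols p m) fun q => walkK D K w q k

/-- a tree edge: defines coset `j` -/
noncomputable def treeEdge (D : Dat) (K j v : ℕ) (k : ℕ → Bool) : Bool :=
  force (v >>> 8) fun p => force (v &&& 255) fun l =>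
    Nat.blt p j && Nat.beq (tget D.cols p l) j && setEdge D K p l k

/-- decode a 24-bit step -/
def dec24 (c : ℕ) : ℕ := (c &&& 16777215) ^^^ 8388608

/-- decode a 40-bit step -/
def dec40 (c : ℕ) : ℕ := (c &&& 1099511627775) ^^^ 549755813888

/-- a chunk of tree edges (24 bits each, nonzero, terminated by zero) -/
noncomputable def treeChunk (D : Dat) : ℕ → ℕ → ℕ → ℕ → (ℕ → ℕ → Bool) → Bool
  | 0, _, _, _, _ => false
  | fuel + 1, c, K, j, k =>
    bif Nat.beq c 0 then k K j
    else treeEdge D K j (dec24 c) fun K' =>
      force (c >>> 24) fun c' => force (j + 1) fun j' => treeChunk D fuel c' K' j' k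

/-- all tree chunks -/
noncomputable def treeAll (D : Dat) : List ℕ → ℕ → ℕ → (ℕ → ℕ → Bool) → Bool
  | [], K, j, k => k K j
  | c :: cs, K, j, k => treeChunk D chunkFuel c K j fun K' j' => treeAll D cs K' j' k

/-- scan word `w` at coset `i`, all edges known except the one at position `pos` -/
noncomputable def gapWord (D : Dat) (K i : ℕ) (w : List ℕ) (pos : ℕ) (k : ℕ → Bool) : Bool :=
  Nat.blt pos w.length &&
    walkK D K (w.take pos) i fun p =>
      force (tget D.cols p (w.getD pos 0)) fun q =>
        walkK D K (w.drop (pos + 1)) q fun z =>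
          Nat.beq z i && setEdge D K p (w.getD pos 0) k

/-- a deduction, by a relator at any coset or by a subgroup word at coset zero -/
noncomputable def gapStep (D : Dat) (K v : ℕ) (k : ℕ → Bool) : Bool :=
  force ((v >>> 10) &&& 1023) fun r =>
    force (v >>> 20) fun i =>
      force (v &&& 1023) fun pos =>
        bif Nat.blt r D.R.length then gapWord D K i (D.R.getD r []) pos k
        else Nat.beq i 0 && gapWord D K 0 (D.S.getD (r - D.R.length) []) pos k

/-- a chunk of deductions (40 bits each, nonzero, terminated by zero) -/
noncomputable def gapChunk (D : Dat) : ℕ → ℕ → ℕ → (ℕ → Bool) → Bool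
  | 0, _, _, _ => false
  | fuel + 1, c, K, k =>
    bif Nat.beq c 0 then k K
    else gapStep D K (dec40 c) fun K' =>
      force (c >>> 40) fun c' => gapChunk D fuel c' K' k

/-- push a letter on a reduced stack -/
def push1 (iv : List ℕ) (x : ℕ) : List ℕ → (List ℕ → Bool) → Bool
  | [], k => k [x]
  | h :: t, k => bif Nat.beq (linv iv h) x then k t else k (x :: h :: t)

/-- move `n` letters from the remaining word to the stack -/
def pushN (iv : List ℕ) : ℕ → List ℕ → List ℕ → (List ℕ → List ℕ → Bool) → Bool
  | 0, rest, stk, k => k rest stk
  | _ + 1, [], _, _ => false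
  | n + 1, x :: rest, stk, k => push1 iv x stk fun stk' => pushN iv n rest stk' k

/-- move all remaining letters to the stack -/
def pushAll (iv : List ℕ) : List ℕ → List ℕ → (List ℕ → Bool) → Bool
  | [], stk, k => k stk
  | x :: rest, stk, k => push1 iv x stk fun stk' => pushAll iv rest stk' k

/-- prepend the reversal of a short word, producing an evaluated list -/
def revOnto : List ℕ → List ℕ → List ℕ
  | [], acc => acc
  | x :: xs, acc => revOnto xs (x :: acc)

/-- the inserted loop of an operation -/
noncomputable def opLoop (D : Dat) (r kk : ℕ) : List ℕ :=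
  bif Nat.blt r D.R.length then
    bif Nat.beq (kk &&& 1) 1 then
      winv D.iv ((D.R.getD r []).drop (kk >>> 1) ++ (D.R.getD r []).take (kk >>> 1))
    else (D.R.getD r []).drop (kk >>> 1) ++ (D.R.getD r []).take (kk >>> 1)
  else
    bif Nat.blt (r - D.R.length) D.L then [r - D.R.length, linv D.iv (r - D.R.length)] else []

/-- apply insertion operations left to right -/
noncomputable def insOps (D : Dat) : List ℕ → List ℕ → List ℕ → (List ℕ → Bool) → Bool
  | [], rest, stk, k => pushAll D.iv rest stk k
  | v :: ops, rest, stk, k =>
    force (v >>> 24) fun adv => force ((v >>> 12) &&& 4095) fun r => force (v &&& 4095) fun kk =>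
      pushN D.iv adv rest stk fun rest' stk' =>
        insOps D ops (revOnto (opLoop D r kk).reverse rest') stk' k

/-- derive the edge `(i, l)` from an insertion derivation -/
noncomputable def insStep (D : Dat) (K i l : ℕ) (ops : List ℕ) (k : ℕ → Bool) : Bool :=
  insOps D ops [l] [] fun stk =>
    walkK D K (revOnto stk []) i fun z => Nat.beq z (tget D.cols i l) && setEdge D K i l k

/-- blocks of a certificate -/
inductive Blk where
  | gaps (c : ℕ)
  | ins (i l : ℕ) (ops : List ℕ)

/-- run the blocks -/
noncomputable def runBlks (D : Dat) : List Blk → ℕ → (ℕ → Bool) → Bool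
  | [], K, k => k K
  | Blk.gaps c :: bs, K, k => gapChunk D chunkFuel c K fun K' => runBlks D bs K' k
  | Blk.ins i l ops :: bs, K, k => insStep D K i l ops fun K' => runBlks D bs K' k

/-- the complete check -/
noncomputable def closeCheck (D : Dat) (n : ℕ) (tree : List ℕ) (bs : List Blk) : Bool :=
  treeAll D tree 0 1 fun K j => Nat.beq j n && runBlks D bs K fun K' =>
    Nat.beq (K' >>> 64) (2 ^ (n * D.L) - 1)

/-- all entries of a column are `< n` and inverted by the inverse column -/
noncomputable def colOK (c c' n : ℕ) : ℕ → Bool
  | 0 => true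
  | i + 1 => force (cget c i) (fun q => Nat.blt q n && Nat.beq (cget c' q) i) && colOK c c' n i

/-- follow a list of columns -/
noncomputable def walkC : List ℕ → ℕ → ℕ
  | [], p => p
  | c :: cs, p => force (cget c p) fun q => walkC cs q

/-- a word fixes every point below `i` -/
noncomputable def fixAll (cs : List ℕ) : ℕ → Bool
  | 0 => true
  | i + 1 => Nat.beq (walkC cs i) i && fixAll cs i

/-- the columns form an action in which all relators act trivially -/
noncomputable def permCheck (L n : ℕ) (iv cols : List ℕ) (R : List (List ℕ)) : Bool :=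
  ((List.range L).all fun l =>
      Nat.blt (linv iv l) L && Nat.beq (linv iv (linv iv l)) l &&
        colOK (cols.getD l 0) (cols.getD (linv iv l) 0) n n) &&
    R.all fun w => w.all (fun l => Nat.blt l L) && fixAll (w.map fun l => cols.getD l 0) n

end Cfsg.Agent.H45
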