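import Cfsg.Agent.H45.CosetGroup

/-!
Segmented certificates give covers by cosets; an index from an order.
-/

set_option autoImplicit false

namespace Cfsg.Agent.H45

variable {Gen : Type} [DecidableEq Gen] {P : Pres Gen}

/-- a segmented certificate covers the group by `n` cosets -/
theorem Pres.OK.cover (h : P.OK) {D : Dat} {n K0 K1 : ℕ} {tree : List ℕ}
    {segs : List (List Blk × ℕ)} (hL : D.L = P.gl.length) (hiv : D.iv = List.range P.gl.length)
    (hR : D.R = P.R) (htree : treeAll D tree 0 1 (fun K j => Nat.beq j n && Nat.beq K K0) = true)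
    (hsegs : SegsOK D K0 segs K1) (hfull : Nat.beq (K1 >>> 64) (2 ^ (n * D.L) - 1) = true)
    (hlt : ∀ l, l < D.L → ∀ i, i < n → tget D.cols i l < n) (hn : 0 < n) :
    ∃ w : ℕ → P.Gp, ∀ g : P.Gp, ∃ i, i < n ∧ g * (w i)⁻¹ ∈ P.wsub D.S := by
  have hD : Hyp D P.e (P.wsub D.S) := by
    refine ⟨?_, ?_, fun w hw => Subgroup.subset_closure ⟨w, hw, rfl⟩⟩
    · rw [hiv]; exact h.e_inv _
    · rw [hR]; exact h.rel
  obtain ⟨w, hw0, -, hw⟩ := closeSegs_sound hD (E := ⊤) (fun _ _ => Subgroup.mem_top _)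
    htree hsegs hfull
  refine ⟨w, fun g => cosets_exhaust (e := P.e) (iv := D.iv) (L := D.L) (E := ⊤) ?_
    (fun l hl => ⟨?_, hD.invl l⟩) hlt hn hw0 hw g (Subgroup.mem_top g)⟩
  · rw [hL, h.gen]
  · rw [hiv, linv_range]; exact hl

/-- a cover by `n` cosets of a subgroup of order at most `m`, in a group of order `n * m` -/
theorem index_eq_of_cover {G : Type*} [Group G] (H : Subgroup G) {n m : ℕ} {w : ℕ → G}
    (hw : ∀ g : G, ∃ i, i < n ∧ g * (w i)⁻¹ ∈ H) (hH : Nat.card H ≤ m) (hm : 0 < m)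
    (hG : Nat.card G = n * m) : H.index = n := by
  have hup : H.index ≤ n := by
    rw [Subgroup.index, ← Nat.card_fin n]
    refine Nat.card_le_card_of_surjective
      (fun i : Fin n => (QuotientGroup.mk (w i)⁻¹ : G ⧸ H)) ?_
    intro x
    obtain ⟨g, rfl⟩ := QuotientGroup.mk_surjective x
    obtain ⟨i, hi, hmem⟩ := hw g⁻¹
    refine ⟨⟨i, hi⟩, QuotientGroup.eq.mpr ?_⟩
    simpa [mul_inv_rev] using H.inv_mem hmem
  refine le_antisymm hup ?_
  by_contra hlt
  have h1 : Nat.card H * H.index < n * m :=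
    calc Nat.card H * H.index ≤ m * H.index := Nat.mul_le_mul_right _ hH
      _ < m * n := Nat.mul_lt_mul_of_pos_left (by omega) hm
      _ = n * m := Nat.mul_comm _ _
  rw [H.card_mul_index, hG] at h1
  exact lt_irrefl _ h1

end Cfsg.Agent.H45
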