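import Cfsg.Agent.H45.CosetDerived

/-!
Coset facts with justifications: membership of a word in a subgroup from a partial enumeration.
-/

set_option autoImplicit false

namespace Cfsg.Agent.H45

/-- start node of a fact -/
def fP (F k : ℕ) : ℕ := (F >>> (k * 40)) &&& 65535

/-- letter of a fact (255: none) -/
def fL (F k : ℕ) : ℕ := (F >>> (k * 40 + 16)) &&& 255

/-- end node of a fact -/
def fQ (F k : ℕ) : ℕ := (F >>> (k * 40 + 24)) &&& 65535

/-- push an optional letter -/
def pushO (iv : List ℕ) (l : ℕ) (stk : List ℕ) (k : List ℕ → Bool) : Bool :=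
  bif Nat.beq l 255 then k stk else push1 iv l stk k

/-- follow a packed list of signed references -/
noncomputable def refWalk (D : Dat) (F bound : ℕ) :
    ℕ → ℕ → ℕ → List ℕ → (ℕ → List ℕ → Bool) → Bool
  | 0, _, _, _, _ => false
  | fuel + 1, refs, cur, stk, k =>
    bif Nat.beq refs 0 then k cur stk
    else force ((refs &&& 1048575) ^^^ 524288) fun v => force (v >>> 1) fun i =>
      Nat.blt i bound &&
        bif Nat.beq (v &&& 1) 1 then
          Nat.beq (fQ F i) cur && force (fL F i) fun l => force (fP F i) fun cur' =>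
            force (bif Nat.beq l 255 then 255 else linv D.iv l) fun l' =>
              (Nat.beq l 255 || Nat.blt l D.L) && pushO D.iv l' stk fun stk' =>
                force (refs >>> 20) fun refs' => refWalk D F bound fuel refs' cur' stk' k
        else
          Nat.beq (fP F i) cur && force (fL F i) fun l => force (fQ F i) fun cur' =>
            (Nat.beq l 255 || Nat.blt l D.L) && pushO D.iv l stk fun stk' =>
              force (refs >>> 20) fun refs' => refWalk D F bound fuel refs' cur' stk' k

/-- the expected loop of a justification -/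
noncomputable def justLoop (D : Dat) (hd : ℕ) : List ℕ :=
  bif Nat.beq (hd >>> 12) 4095 then [] else opLoop D (hd >>> 12) (hd &&& 4095)

/-- the justification of fact `k` -/
noncomputable def factOK (D : Dat) (F k : ℕ) (hd refs : ℕ) : Bool :=
  refWalk D F k 600 refs (fP F k) [] fun cur stk =>
    Nat.beq cur (fQ F k) && force (fL F k) fun l =>
      (Nat.beq l 255 || Nat.blt l D.L) &&
        force (bif Nat.beq l 255 then 255 else linv D.iv l) fun l' =>
          pushO D.iv l' stk fun stk' => pushAll D.iv (justLoop D hd) [] fun exp => stk' == exp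

/-- one block of derived facts -/
noncomputable def factsBlock (D : Dat) (F : ℕ) : List (ℕ × ℕ) → ℕ → (ℕ → Bool) → Bool
  | [], k, c => c k
  | (hd, refs) :: xs, k, c =>
    factOK D F k hd refs && force (k + 1) fun k' => factsBlock D F xs k' c

/-- all derived facts, from index `k` on -/
noncomputable def factsOK (D : Dat) (F : ℕ) : List (List (ℕ × ℕ)) → ℕ → (ℕ → Bool) → Bool
  | [], k, c => c k
  | xs :: rest, k, c => factsBlock D F xs k fun k' => factsOK D F rest k' c

/-- the defining facts -/
noncomputable def defsOK (D : Dat) (F : ℕ) : ℕ → Bool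
  | 0 => true
  | k + 1 =>
    Nat.beq (fQ F k) (k + 1) && Nat.blt (fP F k) (k + 1) && Nat.blt (fL F k) D.L && defsOK D F k

/-- the loop facts of subgroup letters -/
noncomputable def loopsOK (F : ℕ) (ms : List ℕ) : ℕ → ℕ → Bool
  | _, 0 => true
  | k, m + 1 =>
    Nat.beq (fP F k) 0 && Nat.beq (fQ F k) 0 && (ms.contains (fL F k)) && loopsOK F ms (k + 1) m

/-- the complete check: `tw` lies in the subgroup generated by the letters `ms` -/
noncomputable def dagCheck (D : Dat) (F : ℕ) (ms : List ℕ) (nd : ℕ) (js : List (List (ℕ × ℕ)))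
    (final : ℕ) (tw : List ℕ) : Bool :=
  defsOK D F nd && loopsOK F ms nd ms.length && factsOK D F js (nd + ms.length) fun tot =>
    refWalk D F tot 600 final 0 [] fun cur stk =>
      Nat.beq cur 0 && pushAll D.iv tw [] fun exp => stk == exp

variable {G : Type*} [Group G]

/-- optional letter value -/
def eOpt (e : ℕ → G) (l : ℕ) : G := if l = 255 then 1 else e l

/-- semantics of a fact -/
def FRel (e : ℕ → G) (H : Subgroup G) (w : ℕ → G) (F k : ℕ) : Prop :=
  w (fP F k) * eOpt e (fL F k) * (w (fQ F k))⁻¹ ∈ H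

variable {D : Dat} {e : ℕ → G} {H : Subgroup G}

theorem pushO_sound (hD : Hyp D e H) {l : ℕ} {stk : List ℕ} {k : List ℕ → Bool}
    (h : pushO D.iv l stk k = true) :
    ∃ stk', k stk' = true ∧ evalW e stk'.reverse = evalW e stk.reverse * eOpt e l := by
  unfold pushO at h
  cases hb : Nat.beq l 255
  · simp only [hb, cond_false] at h
    obtain ⟨s, h1, h2⟩ := push1_sound hD h
    refine ⟨s, h1, ?_⟩
    have : l ≠ 255 := fun h255 => by simp [h255] at hb
    rw [h2, eOpt, if_neg this]
  · simp only [hb, cond_true] at h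
    exact ⟨stk, h, by simp [eOpt, Nat.eq_of_beq_eq_true hb]⟩

theorem refWalk_sound (hD : Hyp D e H) {F bound : ℕ} {w : ℕ → G}
    (hF : ∀ i, i < bound → FRel e H w F i) (hinv : ∀ l, l < D.L → linv D.iv l ≠ 255) :
    ∀ (fuel refs cur : ℕ) (stk : List ℕ) (k : ℕ → List ℕ → Bool),
      refWalk D F bound fuel refs cur stk k = true →
        ∃ cur' stk', k cur' stk' = true ∧
          w cur * (evalW e stk.reverse)⁻¹ * evalW e stk'.reverse * (w cur')⁻¹ ∈ H := by
  intro fuel
  induction fuel with
  | zero => intro refs cur stk k h; simp [refWalk] at h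
  | succ fuel ih =>
    intro refs cur stk k h
    unfold refWalk at h
    cases hb : Nat.beq refs 0
    · simp only [hb, cond_false, force_eq, Bool.and_eq_true, blt_iff] at h
      obtain ⟨hi, h⟩ := h
      have hrel := hF _ hi
      unfold FRel at hrel
      cases hs : Nat.beq (((refs &&& 1048575) ^^^ 524288) &&& 1) 1
      · simp only [hs, cond_false, Bool.and_eq_true, Nat.beq_eq] at h
        obtain ⟨hcur, -, h⟩ := h
        obtain ⟨s1, h1, e1⟩ := pushO_sound hD h
        obtain ⟨c2, s2, h2, e2⟩ := ih _ _ _ _ h1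
        refine ⟨c2, s2, h2, ?_⟩
        rw [hcur] at hrel
        have := H.mul_mem hrel e2
        rw [e1, mul_inv_rev] at this
        convert this using 1
        group
      · simp only [hs, cond_true, Bool.and_eq_true, Nat.beq_eq] at h
        obtain ⟨hcur, hl, h⟩ := h
        obtain ⟨s1, h1, e1⟩ := pushO_sound hD h
        obtain ⟨c2, s2, h2, e2⟩ := ih _ _ _ _ h1
        refine ⟨c2, s2, h2, ?_⟩
        rw [hcur] at hrel
        generalize hj : ((refs &&& 1048575) ^^^ 524288) >>> 1 = j at hrel hl e1 e2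
        have hl' : eOpt e (bif Nat.beq (fL F j) 255 then 255 else linv D.iv (fL F j)) =
            (eOpt e (fL F j))⁻¹ := by
          cases hb2 : Nat.beq (fL F j) 255
          · have hne : fL F j ≠ 255 := fun h255 => by simp [h255] at hb2
            simp only [hb2, Bool.false_or, blt_iff] at hl
            simp only [cond_false, eOpt, if_neg hne, if_neg (hinv _ hl), hD.invl]
          · simp [eOpt, Nat.eq_of_beq_eq_true hb2]
        have := H.mul_mem (H.inv_mem hrel) e2
        rw [e1, hl', mul_inv_rev] at this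
        convert this using 1
        group
    · simp only [hb, cond_true] at h
      exact ⟨cur, stk, h, by simp⟩

theorem evalW_justLoop (hD : Hyp D e H) (hd : ℕ) : evalW e (justLoop D hd) = 1 := by
  unfold justLoop
  cases Nat.beq (hd >>> 12) 4095
  · simpa using evalW_opLoop hD _ _
  · simp [evalW]

theorem factOK_sound (hD : Hyp D e H) {F k hd refs : ℕ} {w : ℕ → G}
    (hF : ∀ i, i < k → FRel e H w F i) (hinv : ∀ l, l < D.L → linv D.iv l ≠ 255)
    (h : factOK D F k hd refs = true) : FRel e H w F k := by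
  unfold factOK at h
  obtain ⟨cur, stk, hk, hmem⟩ := refWalk_sound hD hF hinv _ _ _ _ _ h
  simp only [Bool.and_eq_true, Nat.beq_eq, force_eq] at hk
  obtain ⟨rfl, hl, hk⟩ := hk
  obtain ⟨s1, h1, e1⟩ := pushO_sound hD hk
  obtain ⟨s2, h2, e2⟩ := pushAll_sound hD _ _ _ h1
  rw [beq_iff_eq] at h2
  subst h2
  rw [evalW_justLoop hD, mul_one, List.reverse_nil, evalW_nil] at e2
  rw [e2] at e1
  have hl' : eOpt e (bif Nat.beq (fL F k) 255 then 255 else linv D.iv (fL F k)) =
      (eOpt e (fL F k))⁻¹ := by
    cases hb2 : Nat.beq (fL F k) 255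
    · have hne : fL F k ≠ 255 := fun h255 => by simp [h255] at hb2
      simp only [hb2, Bool.false_or, blt_iff] at hl
      simp only [cond_false, eOpt, if_neg hne, if_neg (hinv _ hl), hD.invl]
    · simp [eOpt, Nat.eq_of_beq_eq_true hb2]
  rw [hl', eq_comm, mul_inv_eq_one] at e1
  unfold FRel
  rw [e1] at hmem
  simpa [evalW] using hmem

theorem factsBlock_sound (hD : Hyp D e H) {F : ℕ} {w : ℕ → G}
    (hinv : ∀ l, l < D.L → linv D.iv l ≠ 255) :
    ∀ (xs : List (ℕ × ℕ)) (k : ℕ) (c : ℕ → Bool), (∀ i, i < k → FRel e H w F i) →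
      factsBlock D F xs k c = true → ∃ k', c k' = true ∧ ∀ i, i < k' → FRel e H w F i := by
  intro xs
  induction xs with
  | nil => intro k c hk h; exact ⟨k, by simpa [factsBlock] using h, hk⟩
  | cons x xs ihx =>
    obtain ⟨hd, refs⟩ := x
    intro k c hk h
    simp only [factsBlock, Bool.and_eq_true, force_eq] at h
    refine ihx (k + 1) c (fun i hi => ?_) h.2
    rcases Nat.lt_succ_iff_lt_or_eq.mp hi with hi | rfl
    · exact hk i hi
    · exact factOK_sound hD hk hinv h.1

theorem factsOK_sound (hD : Hyp D e H) {F : ℕ} {w : ℕ → G}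
    (hinv : ∀ l, l < D.L → linv D.iv l ≠ 255) :
    ∀ (js : List (List (ℕ × ℕ))) (k : ℕ) (c : ℕ → Bool), (∀ i, i < k → FRel e H w F i) →
      factsOK D F js k c = true → ∃ k', c k' = true ∧ ∀ i, i < k' → FRel e H w F i := by
  intro js
  induction js with
  | nil => intro k c hk h; exact ⟨k, by simpa [factsOK] using h, hk⟩
  | cons xs rest ih =>
    intro k c hk h
    obtain ⟨k', h', hk'⟩ := factsBlock_sound hD hinv xs k _ hk h
    exact ih k' c hk' h'

theorem defsOK_sound {F : ℕ} : ∀ {nd : ℕ}, defsOK D F nd = true →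
    ∃ w : ℕ → G, w 0 = 1 ∧ ∀ i, i < nd → fQ F i = i + 1 ∧ fP F i ≤ i ∧
      FRel e (⊥ : Subgroup G) w F i := by
  intro nd
  induction nd with
  | zero => intro _; exact ⟨fun _ => 1, rfl, fun i hi => absurd hi (Nat.not_lt_zero i)⟩
  | succ nd ih =>
    intro h
    simp only [defsOK, Bool.and_eq_true, Nat.beq_eq, blt_iff] at h
    obtain ⟨⟨⟨hq, hp⟩, hl⟩, hrest⟩ := h
    obtain ⟨w, hw0, hw⟩ := ih hrest
    refine ⟨Function.update w (nd + 1) (w (fP F nd) * eOpt e (fL F nd)),
      by rw [Function.update_of_ne (by omega)]; exact hw0, fun i hi => ?_⟩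
    rcases Nat.lt_succ_iff_lt_or_eq.mp hi with hi | rfl
    · obtain ⟨h1, h2, h3⟩ := hw i hi
      refine ⟨h1, h2, ?_⟩
      unfold FRel at h3 ⊢
      rwa [h1, Function.update_of_ne (by omega), Function.update_of_ne (by omega), ← h1]
    · refine ⟨hq, Nat.lt_succ_iff.mp hp, ?_⟩
      unfold FRel
      rw [hq, Function.update_self, Function.update_of_ne (by omega)]
      simp

theorem loopsOK_sound {F : ℕ} {ms : List ℕ} {w : ℕ → G} (hw0 : w 0 = 1)
    (hms : ∀ l ∈ ms, e l ∈ H) (hlt : ∀ l ∈ ms, l < 255) :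
    ∀ {m k : ℕ}, loopsOK F ms k m = true → ∀ i, k ≤ i → i < k + m → FRel e H w F i := by
  intro m
  induction m with
  | zero => intro k _ i h1 h2; exact absurd h2 (by omega)
  | succ m ih =>
    intro k h i h1 h2
    simp only [loopsOK, Bool.and_eq_true, Nat.beq_eq, List.contains_iff_mem] at h
    rcases Nat.eq_or_lt_of_le h1 with rfl | h1
    · unfold FRel
      have hne : fL F k ≠ 255 := Nat.ne_of_lt (hlt _ h.1.2)
      rw [h.1.1.1, h.1.1.2, hw0, eOpt, if_neg hne]
      simpa using hms _ h.1.2
    · exact ih h.2 i h1 (by omega)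

/-- a checked fact list puts the target word in the subgroup -/
theorem dagCheck_sound (hD : Hyp D e H) {F : ℕ} {ms : List ℕ} {nd final : ℕ}
    {js : List (List (ℕ × ℕ))} {tw : List ℕ}
    (hinv : ∀ l, l < D.L → linv D.iv l ≠ 255) (hms : ∀ l ∈ ms, e l ∈ H)
    (hlt : ∀ l ∈ ms, l < 255) (h : dagCheck D F ms nd js final tw = true) :
    evalW e tw ∈ H := by
  simp only [dagCheck, Bool.and_eq_true] at h
  obtain ⟨⟨hdef, hloop⟩, hfacts⟩ := h
  obtain ⟨w, hw0, hw⟩ := defsOK_sound (e := e) hdef
  obtain ⟨tot, htot, hall⟩ := factsOK_sound hD hinv _ _ _ (fun i hi => by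
    rcases Nat.lt_or_ge i nd with h1 | h1
    · have := (hw i h1).2.2
      unfold FRel at this ⊢
      rw [Subgroup.mem_bot] at this
      rw [this]
      exact H.one_mem
    · exact loopsOK_sound hw0 hms hlt hloop i h1 hi) hfacts
  obtain ⟨cur, stk, hk, hmem⟩ := refWalk_sound hD hall hinv _ _ _ _ _ htot
  simp only [Bool.and_eq_true, Nat.beq_eq] at hk
  obtain ⟨rfl, hk⟩ := hk
  obtain ⟨s, hs, es⟩ := pushAll_sound hD _ _ _ hk
  rw [beq_iff_eq] at hs
  subst hs
  rw [es, hw0] at hmem
  simpa [evalW] using hmem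

end Cfsg.Agent.H45
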