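import Cfsg.Prelude.Def_SporCoxeter
import Cfsg.Agent.H45.CosetOrbit

/-!
Coxeter-style presentations on involutions and table certificates.
-/

set_option autoImplicit false

namespace Cfsg.Agent.H45

open Cfsg.Spor

variable {Gen : Type} [DecidableEq Gen]

/-- generators indexed by letters -/
def eOf {G : Type*} [Group G] (gl : List Gen) (f : Gen → G) (l : ℕ) : G :=
  (gl[l]?).elim 1 f

/-- letter of a generator -/
def ixOf (gl : List Gen) (x : Gen) : ℕ := gl.findIdx (fun y => decide (y = x))

/-- the word of a Coxeter relator -/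
def coxWord (gl : List Gen) (edges : List (Gen × ℕ × Gen)) (x y : Gen) : List ℕ :=
  (List.replicate (coxLabel edges x y) [ixOf gl x, ixOf gl y]).flatten

/-- all generators are listed and every pair is covered by the word list `Rc`, which contains
nothing else -/
def coxCheck (gl : List Gen) (edges : List (Gen × ℕ × Gen)) (Rc : List (List ℕ)) : Bool :=
  (gl.all fun x => decide (x ∈ coxNodes edges)) &&
    (gl.all fun x => gl.all fun y =>
      decide (coxWord gl edges x y ∈ Rc) ||
        decide ((List.replicate (coxLabel edges x y) [ixOf gl y, ixOf gl x]).flatten ∈ Rc)) &&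
      Rc.all fun w => gl.any fun x => gl.any fun y => decide (w = coxWord gl edges x y)

variable {G : Type*} [Group G] {gl : List Gen} {f : Gen → G}

theorem eOf_ix {x : Gen} (hx : x ∈ gl) : eOf gl f (ixOf gl x) = f x := by
  have h : ixOf gl x < gl.length :=
    List.findIdx_lt_length_of_exists ⟨x, hx, by simp⟩
  have h2 : gl[ixOf gl x] = x :=
    of_decide_eq_true (List.findIdx_getElem (p := fun y => decide (y = x)) (w := h))
  rw [eOf, List.getElem?_eq_getElem h, h2]; rfl

theorem evalW_replicate (e : ℕ → G) (m : ℕ) (a b : ℕ) :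
    evalW e (List.replicate m [a, b]).flatten = (e a * e b) ^ m := by
  induction m with
  | zero => simp [evalW]
  | succ m ih =>
    rw [List.replicate_succ, List.flatten_cons, evalW_append, ih, pow_succ']
    simp [evalW]

theorem pow_swap_eq_one {a b : G} {m : ℕ} (h : (b * a) ^ m = 1) : (a * b) ^ m = 1 := by
  have h2 : a * b = a * (b * a) * a⁻¹ := by group
  rw [h2, conj_pow, h]; simp

/-- the Coxeter relators hold -/
def CoxHolds (edges : List (Gen × ℕ × Gen)) (f : Gen → G) : Prop :=
  ∀ x ∈ coxNodes edges, ∀ y ∈ coxNodes edges, (f x * f y) ^ coxLabel edges x y = 1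

theorem coxHolds_of_words {edges : List (Gen × ℕ × Gen)} {Rc : List (List ℕ)}
    (hall : ∀ x : Gen, x ∈ gl) (hc : coxCheck gl edges Rc = true)
    (h : ∀ w ∈ Rc, evalW (eOf gl f) w = 1) : CoxHolds edges f := by
  intro x _ y _
  simp only [coxCheck, Bool.and_eq_true, List.all_eq_true, Bool.or_eq_true,
    decide_eq_true_eq] at hc
  rcases hc.1.2 x (hall x) y (hall y) with h1 | h1
  · have := h _ h1
    rwa [coxWord, evalW_replicate, eOf_ix (hall x), eOf_ix (hall y)] at this
  · have := h _ h1
    rw [evalW_replicate, eOf_ix (hall x), eOf_ix (hall y)] at this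
    exact pow_swap_eq_one this

theorem words_of_coxHolds {edges : List (Gen × ℕ × Gen)} {Rc : List (List ℕ)}
    (hc : coxCheck gl edges Rc = true) (h : CoxHolds edges f) :
    ∀ w ∈ Rc, evalW (eOf gl f) w = 1 := by
  intro w hw
  simp only [coxCheck, Bool.and_eq_true, List.all_eq_true, List.any_eq_true,
    decide_eq_true_eq] at hc
  obtain ⟨x, hx, y, hy, rfl⟩ := hc.2 w hw
  rw [coxWord, evalW_replicate, eOf_ix hx, eOf_ix hy]
  exact h x (hc.1.1 x hx) y (hc.1.1 y hy)

theorem sq_of_coxHolds {edges : List (Gen × ℕ × Gen)} (h : CoxHolds edges f)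
    (hn : ∀ x : Gen, x ∈ coxNodes edges) (x : Gen) : f x * f x = 1 := by
  simpa [coxLabel] using h x (hn x) x (hn x)

theorem eOf_inv (hsq : ∀ x, f x * f x = 1) (l : ℕ) : eOf gl f l = (eOf gl f l)⁻¹ := by
  unfold eOf
  cases gl[l]? with
  | none => simp
  | some x => exact eq_inv_of_mul_eq_one_left (hsq x)

theorem linv_range (L l : ℕ) : linv (List.range L) l = l := by
  unfold linv
  rcases Nat.lt_or_ge l L with h | h
  · simp [List.getD_eq_getElem?_getD, h]
  · simp [List.getD_eq_getElem?_getD, List.getElem?_eq_none (by simpa using h : (List.range L).length ≤ l)]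

/-- A presentation on involutions, with relators as words in the letters. -/
structure Pres (Gen : Type) [DecidableEq Gen] where
  edges : List (Gen × ℕ × Gen)
  extra : List (FreeGroup Gen)
  gl : List Gen
  Rc : List (List ℕ)
  Rx : List (List ℕ)

/-- The relators of a presentation. -/
def Pres.R (P : Pres Gen) : List (List ℕ) := P.Rc ++ P.Rx

/-- correctness of a presentation given by words -/
structure Pres.OK (P : Pres Gen) : Prop where
  all : ∀ x : Gen, x ∈ P.gl
  nodup : P.gl.Nodup
  check : coxCheck P.gl P.edges P.Rc = true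
  extra_eval : ∀ (G : Type) [Group G] (f : Gen → G), (∀ x, (f x)⁻¹ = f x) →
    P.extra.map (FreeGroup.lift f) = P.Rx.map (evalW (eOf P.gl f))

variable {P : Pres Gen}

/-- the presented group -/
abbrev Pres.Gp (P : Pres Gen) : Type := CoxPresented Gen P.edges P.extra

/-- the letters in the presented group -/
def Pres.e (P : Pres Gen) : ℕ → P.Gp := eOf P.gl PresentedGroup.of

theorem Pres.OK.nodes (h : P.OK) (x : Gen) : x ∈ coxNodes P.edges := by
  have := h.check
  simp only [coxCheck, Bool.and_eq_true, List.all_eq_true, decide_eq_true_eq] at this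
  exact this.1.1 x (h.all x)

theorem mk_eq_lift {rels : Set (FreeGroup Gen)} (r : FreeGroup Gen) :
    FreeGroup.lift (PresentedGroup.of (rels := rels)) r = PresentedGroup.mk rels r := by
  have h : (FreeGroup.lift (PresentedGroup.of (rels := rels))) = PresentedGroup.mk rels :=
    FreeGroup.ext_hom _ _ (fun x => by rw [FreeGroup.lift_apply_of]; rfl)
  rw [h]

theorem Pres.OK.cox (_h : P.OK) :
    CoxHolds P.edges (PresentedGroup.of : Gen → P.Gp) := by
  intro x hx y hy
  have h1 : PresentedGroup.mk (coxRelators P.edges ∪ {r | r ∈ P.extra})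
      ((FreeGroup.of x * FreeGroup.of y) ^ coxLabel P.edges x y) = 1 :=
    PresentedGroup.one_of_mem (Or.inl ⟨x, hx, y, hy, rfl⟩)
  rw [map_pow, map_mul] at h1
  exact h1

theorem Pres.OK.sq (h : P.OK) (x : Gen) :
    (PresentedGroup.of x : P.Gp) * PresentedGroup.of x = 1 :=
  sq_of_coxHolds h.cox h.nodes x

theorem Pres.OK.e_inv (h : P.OK) (L l : ℕ) : P.e (linv (List.range L) l) = (P.e l)⁻¹ := by
  rw [linv_range]; exact eOf_inv h.sq l

theorem Pres.OK.rel (h : P.OK) : ∀ w ∈ P.R, evalW P.e w = 1 := by
  intro w hw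
  rcases List.mem_append.mp hw with hw | hw
  · exact words_of_coxHolds h.check h.cox w hw
  · have h1 := h.extra_eval P.Gp PresentedGroup.of
      (fun x => (eq_inv_of_mul_eq_one_left (h.sq x)).symm)
    have h2 : evalW P.e w ∈ P.Rx.map (evalW (eOf P.gl (PresentedGroup.of : Gen → P.Gp))) :=
      List.mem_map.mpr ⟨w, hw, rfl⟩
    rw [← h1, List.mem_map] at h2
    obtain ⟨r, hr, hrw⟩ := h2
    rw [← hrw, mk_eq_lift]
    exact PresentedGroup.one_of_mem (Or.inr hr)

theorem Pres.OK.gen (h : P.OK) :
    Subgroup.closure {g : P.Gp | ∃ l < P.gl.length, P.e l = g} = ⊤ := by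
  rw [eq_top_iff, ← PresentedGroup.closure_range_of, Subgroup.closure_le]
  rintro _ ⟨x, rfl⟩
  exact Subgroup.subset_closure ⟨ixOf P.gl x,
    List.findIdx_lt_length_of_exists ⟨x, h.all x, by simp⟩, eOf_ix (h.all x)⟩

/-- A table of permutations satisfying the relators gives an action of the presented group. -/
theorem Pres.OK.act (h : P.OK) {n : ℕ} {cols : List ℕ}
    (hp : permCheck P.gl.length n (List.range P.gl.length) cols P.R = true) :
    ∃ φ : P.Gp →* Equiv.Perm (Fin n), Act (permCheck_PT hp) P.e φ := by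
  set T := permCheck_PT hp
  let f : Gen → Equiv.Perm (Fin n) := fun x => sig T (ixOf P.gl x)
  have hrel : ∀ w ∈ P.R, evalW (sig T) w = 1 := permCheck_rel hp
  have hlt : ∀ w ∈ P.R, ∀ l ∈ w, l < P.gl.length := by
    intro w hw l hl
    have h' := hp
    simp only [permCheck, Bool.and_eq_true, List.all_eq_true, blt_iff] at h'
    exact (h'.2 w hw).1 l hl
  have hix : ∀ l (hl : l < P.gl.length), ixOf P.gl P.gl[l] = l := by
    intro l hl
    have hl' : ixOf P.gl P.gl[l] < P.gl.length :=
      List.findIdx_lt_length_of_exists ⟨P.gl[l], List.getElem_mem hl, by simp⟩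
    exact h.nodup.getElem_inj_iff.mp
      (of_decide_eq_true (List.findIdx_getElem (p := fun y => decide (y = P.gl[l])) (w := hl')))
  have he : ∀ l, l < P.gl.length → eOf P.gl f l = sig T l := by
    intro l hl
    simp only [eOf, List.getElem?_eq_getElem hl, Option.elim_some, f, hix l hl]
  have heval : ∀ w ∈ P.R, evalW (eOf P.gl f) w = 1 := by
    intro w hw
    rw [← hrel w hw]
    unfold evalW
    exact congrArg List.prod (List.map_congr_left fun l hl => he l (hlt w hw l hl))
  have hcox : CoxHolds P.edges f :=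
    coxHolds_of_words h.all h.check fun w hw => heval w (List.mem_append_left _ hw)
  have hext : ∀ r ∈ P.extra, FreeGroup.lift f r = 1 := by
    intro r hr
    have h1 := h.extra_eval _ f
      (fun x => (eq_inv_of_mul_eq_one_left (sq_of_coxHolds hcox h.nodes x)).symm)
    have h2 : FreeGroup.lift f r ∈ P.extra.map (FreeGroup.lift f) := List.mem_map.mpr ⟨r, hr, rfl⟩
    rw [h1, List.mem_map] at h2
    obtain ⟨w, hw, hwr⟩ := h2
    rw [← hwr]
    exact heval w (List.mem_append_right _ hw)
  have hall : ∀ r ∈ coxRelators P.edges ∪ {r | r ∈ P.extra}, FreeGroup.lift f r = 1 := by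
    rintro r (⟨x, hx, y, hy, rfl⟩ | hr)
    · simpa [map_pow, map_mul, FreeGroup.lift_apply_of] using hcox x hx y hy
    · exact hext r hr
  refine ⟨PresentedGroup.toGroup hall, ⟨fun l hl => ?_⟩⟩
  rw [← he l hl]
  simp only [Pres.e, eOf, List.getElem?_eq_getElem hl, Option.elim_some]
  exact PresentedGroup.toGroup.of hall

end Cfsg.Agent.H45
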