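import Cfsg.Agent.H45.Fi22I14080

/-!
The column entries of the table are in range.
-/

set_option autoImplicit false
set_option Elab.async false
set_option maxRecDepth 100000

namespace Cfsg.Agent.H45.Fi22I14080

theorem lt_ok0 : colOK (cols.getD 0 0) (cols.getD 0 0) 14080 14080 = true := by decide +kernel

theorem lt_ok1 : colOK (cols.getD 1 0) (cols.getD 1 0) 14080 14080 = true := by decide +kernel

theorem lt_ok2 : colOK (cols.getD 2 0) (cols.getD 2 0) 14080 14080 = true := by decide +kernel

theorem lt_ok3 : colOK (cols.getD 3 0) (cols.getD 3 0) 14080 14080 = true := by decide +kernel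

theorem lt_ok4 : colOK (cols.getD 4 0) (cols.getD 4 0) 14080 14080 = true := by decide +kernel

theorem lt_ok5 : colOK (cols.getD 5 0) (cols.getD 5 0) 14080 14080 = true := by decide +kernel

theorem lt_ok6 : colOK (cols.getD 6 0) (cols.getD 6 0) 14080 14080 = true := by decide +kernel

theorem lt_ok7 : colOK (cols.getD 7 0) (cols.getD 7 0) 14080 14080 = true := by decide +kernel

theorem lt_ok8 : colOK (cols.getD 8 0) (cols.getD 8 0) 14080 14080 = true := by decide +kernel

theorem lt_ok : ltCheck 9 14080 cols = true := by
  simp only [ltCheck, List.all_eq_true, List.mem_range]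
  intro l hl
  interval_cases l
  · exact lt_ok0
  · exact lt_ok1
  · exact lt_ok2
  · exact lt_ok3
  · exact lt_ok4
  · exact lt_ok5
  · exact lt_ok6
  · exact lt_ok7
  · exact lt_ok8


end Cfsg.Agent.H45.Fi22I14080
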