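import Cfsg.Agent.H45.CosetGroup

/-!
Generated certificate: 28 cosets (Fi22, letters bcdefgh).
-/

set_option autoImplicit false

namespace Cfsg.Agent.H45.Fi22J28

/-- relator words -/
def relWords : List (List ℕ) := [
  [0, 0],
  [0, 1, 0, 1, 0, 1],
  [0, 2, 0, 2],
  [0, 3, 0, 3],
  [0, 4, 0, 4],
  [0, 5, 0, 5],
  [0, 6, 0, 6],
  [1, 1],
  [1, 2, 1, 2, 1, 2],
  [1, 3, 1, 3],
  [1, 4, 1, 4],
  [1, 5, 1, 5],
  [1, 6, 1, 6],
  [2, 2],
  [2, 3, 2, 3, 2, 3],
  [2, 4, 2, 4],
  [2, 5, 2, 5],
  [2, 6, 2, 6, 2, 6],
  [3, 3],
  [3, 4, 3, 4, 3, 4],
  [3, 5, 3, 5],
  [3, 6, 3, 6],
  [4, 4],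
  [4, 5, 4, 5, 4, 5],
  [4, 6, 4, 6],
  [5, 5],
  [5, 6, 5, 6],
  [6, 6],
  [0, 1, 2, 3, 4, 5, 6, 0, 1, 2, 3, 4, 5, 6, 0, 1, 2, 3, 4, 5, 6, 0, 1, 2, 3, 4, 5, 6, 0, 1, 2, 3, 4, 5, 6, 0, 1, 2, 3, 4, 5, 6, 0, 1, 2, 3, 4, 5, 6, 0, 1, 2, 3, 4, 5, 6, 0, 1, 2, 3, 4, 5, 6]]

/-- subgroup words -/
def subWords : List (List ℕ) := [
  [0],
  [1],
  [2],
  [3],
  [4],
  [6]]

/-- packed columns -/
def cols : List ℕ := [
  0x1b001a00190018001700160012001400130015000f00100011000c000d000e000a000b0008000900050006000700040003000200010000,
  0x1b001a001900150017001600180011001300120014000e000f0010000b000c000d000a0009000600070008000400050003000200010000,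
  0x1b00180019001a00170014001500160010001200110013000f000e000d000c00090008000b000a00070006000500030004000200010000,
  0x1a001b001600180017001900150014001300120011000d000f000b0010000a000e000c0009000800070006000500040002000300010000,
  0x17001a00190018001b00130015001000160012000e0014000c0011000d000f000b000a0009000800070006000500040003000100020000,
  0x190016001b00140017001a001100180013000f001500100012000e000d000c000b000a0009000800070006000500040003000200000001,
  0x160019001a00180013001b001500140017001200110010000f000e000d000c000b000a0007000500090004000800060003000200010000]

/-- letters and their inverses -/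
def invl : List ℕ := [0, 1, 2, 3, 4, 5, 6]

theorem invl_eq : invl = List.range 7 := by decide

/-- the data -/
def dat : Dat := ⟨7, invl, cols, relWords, subWords⟩

/-- packed tree -/
def tree : List ℕ := [
  0x801606801605801603801405801306801304801105801004801002800f05800e04800d03800c04800b03800b01800a03800902800802800706800506800500800406800401800302800203800104800005]

/-- deductions -/
def blks : List Blk := [
  .gaps 0x8001a05403800040701a800000702680017018008001b018008001600c0280014008028001300800800180080280012004028000f004028000c004028000a00402800170680080017054008001304c0380017044008001b0440080013040038001803c018001403802800130380580011030018000d03003800100300380017030008001b0300080015030018000d02c038001002c038000f02c028000d0280380015028018000c028028001602402800110240180015024018000a0240280011020028000d0200580013020008001502002800060200280012018018000f018018000c018018000a0180180007014038000c014018000a014018000801401800070100380012010018000a0100180008010018000700c038001200c018000f00c018000800c01800070080380012008018000f008018000c00801800060040380004004038000f068018000c060018000c05c028000a054018000f050028000a050018000a04c02800080440180003044028000f0400280008040018000c03c028000803c0180008038028000602c018000402c018000602801800040280180006024018000402401800030200380004018028000300802800040680280004060028000405402800020540180003040018000303c01800020380380002024028000200c02800010600180002050018000104c038000103c028000102802800010100280000068018000005c03800000500280000040028000002c028000f0140280000014028000c010028000a00c0280008008028000008800800000840080000080008000007c00800000780080000074008001b0600080018040008001303c0280004030028001502c00800100280280010024008000801800]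

set_option maxRecDepth 100000 in
theorem close_ok : closeCheck dat 28 tree blks = true := by decide +kernel

set_option maxRecDepth 100000 in
theorem lt_ok : ltCheck 7 28 cols = true := by decide +kernel

end Cfsg.Agent.H45.Fi22J28
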