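import Cfsg.Agent.H45.Fi22Pres
import Cfsg.Agent.H45.Fi22I3510
import Cfsg.Agent.H45.Fi22I14080Lt
import Cfsg.Agent.H45.Fi22J720
import Cfsg.Agent.H45.Fi22J72
import Cfsg.Agent.H45.Fi22J28
import Cfsg.Agent.H45.Fi22J3159
import Cfsg.Agent.H45.Fi22Z
import Cfsg.Agent.H45.Fi22K
import Cfsg.Agent.H45.CosetPrim

/-!
The presented group `Fi₂₂`: coset actions and an order bound.
-/

set_option autoImplicit false

set_option maxRecDepth 100000

namespace Cfsg.Agent.H45.Fi22Main

open Cfsg.Spor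

theorem R_eq : Fi22Pres.pres.R = Fi22I3510.relWords := by decide +kernel

theorem rl : Fi22Pres.pres.gl.length = 9 := rfl

theorem close_ok : closeCheck ⟨Fi22Pres.pres.gl.length, List.range Fi22Pres.pres.gl.length,
    Fi22I3510.cols, Fi22Pres.pres.R, Fi22I3510.subWords⟩ 3510 Fi22I3510.tree Fi22I3510.blks =
      true := by
  rw [R_eq, rl, ← Fi22I3510.invl_eq]; exact Fi22I3510.close_ok

theorem perm_ok : permCheck Fi22Pres.pres.gl.length 3510 (List.range Fi22Pres.pres.gl.length)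
    Fi22I3510.cols Fi22Pres.pres.R = true := by
  rw [R_eq, rl, ← Fi22I3510.invl_eq]; exact Fi22I3510.perm_ok

/-- the subgroup of index 3510 -/
abbrev H : Subgroup Fi22Pres.pres.Gp := Fi22Pres.pres.wsub Fi22I3510.subWords

theorem subWords_lt : ∀ g ∈ Fi22I3510.subWords, ∀ l ∈ g, l < Fi22Pres.pres.gl.length := by
  rw [rl]; decide

theorem index_facts : ∃ φ : Fi22Pres.pres.Gp →* Equiv.Perm (Fin 3510),
    Act (permCheck_PT perm_ok) Fi22Pres.pres.e φ ∧
    ∃ F : Fi22Pres.pres.Gp ⧸ H ≃ Fin 3510, F (QuotientGroup.mk (1 : Fi22Pres.pres.Gp)) = 0 ∧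
      ∀ g : Fi22Pres.pres.Gp, ∀ x : Fi22Pres.pres.Gp ⧸ H, F (g • x) = φ g (F x) :=
  Fi22Pres.ok.index (by norm_num) close_ok perm_ok Fi22I3510.fix_ok

theorem H_index : H.index = 3510 := by
  obtain ⟨φ, -, F, -, -⟩ := index_facts
  exact index_eq_of_equiv F

theorem R_eq' : Fi22Pres.pres.R = Fi22I14080.relWords := by decide +kernel

/-- the subgroup of index 14080 -/
abbrev H' : Subgroup Fi22Pres.pres.Gp := Fi22Pres.pres.wsub Fi22I14080.subWords

theorem H'_cosets : ∃ w : ℕ → Fi22Pres.pres.Gp,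
    ∀ g : Fi22Pres.pres.Gp, ∃ i, i < 14080 ∧ g * (w i)⁻¹ ∈ H' := by
  have hD : Hyp Fi22I14080.dat Fi22Pres.pres.e H' := by
    refine ⟨?_, ?_, fun w hw => Subgroup.subset_closure ⟨w, hw, rfl⟩⟩
    · change ∀ l, Fi22Pres.pres.e (linv Fi22I14080.invl l) = (Fi22Pres.pres.e l)⁻¹
      rw [Fi22I14080.invl_eq]; exact Fi22Pres.ok.e_inv 9
    · change ∀ w ∈ Fi22I14080.relWords, evalW Fi22Pres.pres.e w = 1
      rw [← R_eq']; exact Fi22Pres.ok.rel
  obtain ⟨w, hw0, -, hw⟩ := closeSegs_sound hD (E := ⊤) (n := 14080) (K0 := Fi22I14080.known0)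
    (K1 := Fi22I14080.known12) (tree := Fi22I14080.tree) (segs := Fi22I14080.segs)
    (fun _ _ => Subgroup.mem_top _)
    Fi22I14080.tree_ok Fi22I14080.segs_ok Fi22I14080.full_ok
  refine ⟨w, fun g => cosets_exhaust (e := Fi22Pres.pres.e) (iv := Fi22I14080.invl)
    (cols := Fi22I14080.cols) (L := 9) (E := ⊤) ?_ (fun l hl => ⟨?_, hD.invl l⟩)
    (ltCheck_sound Fi22I14080.lt_ok) (by norm_num) hw0 hw g (Subgroup.mem_top g)⟩
  · rw [show (9 : ℕ) = Fi22Pres.pres.gl.length from rfl, Fi22Pres.ok.gen]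
  · rw [Fi22I14080.invl_eq, linv_range]; exact hl

theorem sub_bcdef : Finite (Fi22Pres.pres.wsub [[1], [2], [3], [4], [5]]) ∧
    Nat.card (Fi22Pres.pres.wsub [[1], [2], [3], [4], [5]]) ≤ 720 := by
  have := Fi22Pres.ok.wbound Fi22Pres.ok.rel (D := Fi22J720.dat) (ws := [[1], [2], [3], [4], [5]]) (vs := [])
    (m := 1) rfl Fi22J720.invl_eq (by decide +kernel) (by decide +kernel) (by decide +kernel)
    (ltCheck_sound Fi22J720.lt_ok) (by norm_num) Fi22J720.close_ok Pres.wsub_nil_card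
  simpa using this

theorem sub_bcdefh : Finite (Fi22Pres.pres.wsub [[1], [2], [3], [4], [5], [7]]) ∧
    Nat.card (Fi22Pres.pres.wsub [[1], [2], [3], [4], [5], [7]]) ≤ 51840 := by
  have := Fi22Pres.ok.wbound Fi22Pres.ok.rel (D := Fi22J72.dat) (ws := [[1], [2], [3], [4], [5], [7]]) (vs := [[1], [2], [3], [4], [5]])
    (m := 720) rfl Fi22J72.invl_eq (by decide +kernel) (by decide +kernel) (by decide +kernel)
    (ltCheck_sound Fi22J72.lt_ok) (by norm_num) Fi22J72.close_ok sub_bcdef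
  simpa using this

theorem sub_bcdefgh : Finite (Fi22Pres.pres.wsub [[1], [2], [3], [4], [5], [6], [7]]) ∧
    Nat.card (Fi22Pres.pres.wsub [[1], [2], [3], [4], [5], [6], [7]]) ≤ 1451520 := by
  have := Fi22Pres.ok.wbound Fi22Pres.ok.rel (D := Fi22J28.dat) (ws := [[1], [2], [3], [4], [5], [6], [7]]) (vs := [[1], [2], [3], [4], [5], [7]])
    (m := 51840) rfl Fi22J28.invl_eq (by decide +kernel) (by decide +kernel) (by decide +kernel)
    (ltCheck_sound Fi22J28.lt_ok) (by norm_num) Fi22J28.close_ok sub_bcdefh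
  simpa using this

/-- `(cdefghi)^9` is trivial -/
theorem z_one : evalW Fi22Pres.pres.e Fi22K.z = 1 := by
  obtain ⟨φ, hA, -⟩ := index_facts
  obtain ⟨hfin, hle⟩ := sub_bcdefgh
  set K : Subgroup Fi22Pres.pres.Gp := Fi22Pres.pres.wsub [[1], [2], [3], [4], [5], [6], [7]]
  have hgen : ∀ l, 1 ≤ l → l ≤ 7 → Fi22Pres.pres.e l ∈ K := by
    intro l h1 h7
    refine Subgroup.subset_closure ⟨[l], ?_, mul_one _⟩
    interval_cases l <;> decide
  have hz : evalW Fi22Pres.pres.e Fi22K.z ∈ K := by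
    have := dagCheck_sound (D := ⟨8, [0, 1, 2, 3, 4, 5, 6, 7], [], Fi22Z.relWords, []⟩)
      (e := fun l => Fi22Pres.pres.e (l + 1)) (H := K) ?_ (by decide)
      (fun l hl => hgen _ (by omega) (by simp at hl; omega)) (by decide) Fi22Z.ok
    · rw [← evalW_map] at this
      rwa [show Fi22Z.target.map (· + 1) = Fi22K.z by decide +kernel] at this
    refine ⟨fun l => ?_, fun w hw => ?_, fun w hw => absurd hw (by simp)⟩
    · rw [show ([0, 1, 2, 3, 4, 5, 6, 7] : List ℕ) = List.range 8 from rfl, linv_range]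
      exact eOf_inv Fi22Pres.ok.sq _
    · rw [← evalW_map]
      have hsub : (Fi22Z.relWords.all fun w => decide (w.map (· + 1) ∈ Fi22Pres.pres.R)) = true := by
        decide +kernel
      exact Fi22Pres.ok.rel _ (of_decide_eq_true (List.all_eq_true.mp hsub w hw))
  have hY : 1451520 ≤ Nat.card (K.map φ) := by
    rw [← Fi22K.chain_prod]
    refine chainCheck_sound (permCheck_PT perm_ok) (by rw [rl]; exact Fi22K.chain_ok) _
      fun lv hlv g hg => ⟨_, list_prod_mem fun x hx => ?_,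
        hA.evalW g (fun l hl => ?_)⟩
    · obtain ⟨l, hl, rfl⟩ := List.mem_map.mp hx
      have := List.all_eq_true.mp (List.all_eq_true.mp (List.all_eq_true.mp Fi22K.chain_mem lv hlv)
        g hg) l hl
      simp only [Bool.and_eq_true, Nat.ble_eq] at this
      exact hgen l this.1 this.2
    · exact chainCheck_letters (by rw [rl]; exact Fi22K.chain_ok) lv hlv g hg l hl
  have hsurj := (φ.subgroupMap_surjective K)
  have hbij : Function.Bijective (φ.subgroupMap K) :=
    (Nat.bijective_iff_surjective_and_card _).mpr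
      ⟨hsurj, le_antisymm (hle.trans hY) (Nat.card_le_card_of_surjective _ hsurj)⟩
  have hφ : φ (evalW Fi22Pres.pres.e Fi22K.z) = 1 := by
    have hw := Fi22K.z_fix
    simp only [Bool.and_eq_true, List.all_eq_true, blt_iff] at hw
    have hw9 : ∀ l ∈ Fi22K.z, l < Fi22Pres.pres.gl.length := hw.1
    rw [hA.evalW _ hw9, ← inv_eq_one]
    apply Equiv.ext; intro i; apply Fin.ext
    rw [sig_walk (permCheck_PT perm_ok) _ hw9, ← walkC_map, fixAll_sound hw.2 _ i.isLt]
    rfl
  have h1 := hbij.1 (a₁ := ⟨_, hz⟩) (a₂ := 1) (Subtype.ext (by simpa using hφ))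
  exact congrArg Subtype.val h1

theorem sub_bcdefghi : Finite (Fi22Pres.pres.wsub [[1], [2], [3], [4], [5], [6], [7], [8]]) ∧
    Nat.card (Fi22Pres.pres.wsub [[1], [2], [3], [4], [5], [6], [7], [8]]) ≤ 4585351680 := by
  have hRd : ∀ w ∈ Fi22Pres.pres.R ++ [Fi22K.z], evalW Fi22Pres.pres.e w = 1 := by
    intro w hw
    rcases List.mem_append.mp hw with hw | hw
    · exact Fi22Pres.ok.rel w hw
    · rw [List.mem_singleton.mp hw]; exact z_one
  have := Fi22Pres.ok.wbound hRd (D := Fi22J3159.dat) (ws := [[1], [2], [3], [4], [5], [6], [7], [8]]) (vs := [[1], [2], [3], [4], [5], [6], [7]])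
    (m := 1451520) rfl Fi22J3159.invl_eq (by decide +kernel) (by decide +kernel) (by decide +kernel)
    (ltCheck_sound Fi22J3159.lt_ok) (by norm_num) Fi22J3159.close_ok sub_bcdefgh
  simpa using this

theorem bound_all : Finite Fi22Pres.pres.Gp ∧
    Nat.card Fi22Pres.pres.Gp ≤ 64561751654400 := by
  obtain ⟨w, hw⟩ := H'_cosets
  obtain ⟨hfin, hle⟩ := sub_bcdefghi
  have hH : Finite H' := hfin
  obtain ⟨h1, h2⟩ := card_le_of_cosets (n := 14080) (E := ⊤) (fun g _ => hw g)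
    (le_trans (le_of_eq rfl) hle)
  refine ⟨Finite.of_equiv _ Subgroup.topEquiv.toEquiv, ?_⟩
  rw [← Nat.card_congr Subgroup.topEquiv.toEquiv]
  exact h2.trans (by norm_num)

end Cfsg.Agent.H45.Fi22Main
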