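import Cfsg.Agent.H45.J4M24Check

/-!
Kernel checks of the bottom level for the presentation on `x, y`.
-/

set_option autoImplicit false
set_option maxRecDepth 100000
set_option Elab.async false

namespace Cfsg.Agent.H45.J4M24

theorem close2 : closeCheck dat2 5760 tree2 blks2 = true := by decide +kernel

theorem lt2 : ltOK 4 5760 invl2 cols2 = true := by decide +kernel

theorem rel2_ok : ((List.zip relWords2 ops2).all fun p =>
    relCheck ⟨26, invl1, [], relWords1, []⟩ (p.1.map fun l => letters2.getD l 26) p.2) = true := by
  decide +kernel

end Cfsg.Agent.H45.J4M24
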