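import Cfsg.Agent.H45.J4M24Check1b
import Cfsg.Agent.H45.J4M24Check2

/-!
A group generated by `a, b` satisfying the seven relators of `M₂₄` has order at most `3 · |M₂₄|`.
-/

set_option autoImplicit false

namespace Cfsg.Agent.H45.J4M24

variable {G : Type*} [Group G]

theorem evalW_redW {iv : List ℕ} {e : ℕ → G} (hinv : ∀ l, e (linv iv l) = (e l)⁻¹) :
    ∀ w, evalW e (redW iv w) = evalW e w := by
  intro w
  induction w with
  | nil => rfl
  | cons x w ih =>
    rw [evalW_cons, ← ih, redW]
    cases h : redW iv w with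
    | nil => rfl
    | cons y t =>
      simp only []
      cases hb : Nat.beq (linv iv x) y
      · simp only [cond_false, evalW_cons]
      · simp only [cond_true, evalW_cons]
        rw [← Nat.eq_of_beq_eq_true hb, hinv, mul_inv_cancel_left]

/-- letters on level zero -/
def e0 (a b : G) : ℕ → G
  | 0 => a
  | 1 => b
  | 2 => b⁻¹
  | _ => 1

/-- letters on level one -/
def e1 (a b : G) (l : ℕ) : G := evalW (e0 a b) (genWords1.getD l [])

/-- letters on level two -/
def e2 (a b : G) (l : ℕ) : G := e1 a b (letters2.getD l 26)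

/-- the seven relators hold -/
def Rels (a b : G) : Prop := ∀ w ∈ relWords0, evalW (e0 a b) w = 1

variable {a b : G}

theorem sq_a (h : Rels a b) : a * a = 1 := by
  simpa [evalW, e0] using h [0, 0] (by decide +kernel)

theorem e0_inv (h : Rels a b) : ∀ l, e0 a b (linv invl0 l) = (e0 a b l)⁻¹ := by
  intro l
  match l with
  | 0 => exact eq_inv_of_mul_eq_one_left (sq_a h)
  | 1 => rfl
  | 2 => exact (inv_inv b).symm
  | n + 3 => simp [linv, invl0, e0]

theorem winv_eval {iv : List ℕ} {e : ℕ → G} (hinv : ∀ l, e (linv iv l) = (e l)⁻¹) (w : List ℕ) :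
    evalW e (winv iv w) = (evalW e w)⁻¹ :=
  evalW_winv (D := ⟨0, iv, [], [], []⟩) (H := ⊥) ⟨hinv, by simp, by simp⟩ w

theorem e1_inv (h : Rels a b) : ∀ l, e1 a b (linv invl1 l) = (e1 a b l)⁻¹ := by
  intro l
  rcases Nat.lt_or_ge l 26 with hl | hl
  · have hc := List.all_eq_true.mp invl1_ok l (List.mem_range.mpr hl)
    simp only [Bool.and_eq_true, beq_iff_eq] at hc
    rw [e1, e1, ← winv_eval (e0_inv h), ← evalW_redW (e0_inv h) (winv _ _), hc.2,
      evalW_redW (e0_inv h)]
  · have h1 : linv invl1 l = l := by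
      rw [linv, List.getD_eq_getElem?_getD, List.getElem?_eq_none (by rw [invl1_len]; exact hl),
        Option.getD_none]
    have h2 : genWords1.getD l [] = [] := by
      rw [List.getD_eq_getElem?_getD, List.getElem?_eq_none (by rw [gen_len]; exact hl),
        Option.getD_none]
    rw [h1, e1, h2, evalW_nil, inv_one]

theorem rel1 (h : Rels a b) : ∀ w ∈ relWords1, evalW (e1 a b) w = 1 := by
  intro w hw
  obtain ⟨i, hi, rfl⟩ := List.getElem_of_mem hw
  have hj : i < justs1.length := just_len ▸ hi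
  have hmem : (relWords1[i], justs1[i]) ∈ List.zip relWords1 justs1 := by
    refine List.mem_iff_getElem.mpr ⟨i, by simpa using ⟨hi, hj⟩, ?_⟩
    exact List.getElem_zip
  have hc : (_ : List ℕ) = _ := eq_of_beq (List.all_eq_true.mp rel1_ok _ hmem)
  have he : evalW (e1 a b) relWords1[i] = evalW (e0 a b) (expandW genWords1 relWords1[i]) :=
    (evalW_expand _ _ _).symm
  refine he.trans ?_
  rw [← evalW_redW (e0_inv h), hc, evalW_redW (e0_inv h), evalW_append, evalW_append,
    winv_eval (e0_inv h)]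
  have hr : evalW (e0 a b) (relWords0.getD justs1[i].2 []) = 1 := by
    rw [List.getD_eq_getElem?_getD]
    cases hq : relWords0[justs1[i].2]? with
    | none => rfl
    | some u => exact h u (List.mem_of_getElem? hq)
  rw [hr, mul_one, mul_inv_cancel]

theorem e2_inv (h : Rels a b) : ∀ l, e2 a b (linv invl2 l) = (e2 a b l)⁻¹ := by
  intro l
  rcases Nat.lt_or_ge l 4 with hl | hl
  · have hc := List.all_eq_true.mp invl2_ok l (List.mem_range.mpr hl)
    simp only [Bool.and_eq_true, beq_iff_eq] at hc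
    rw [e2, e2, ← hc.2, e1_inv h]
  · have h1 : linv invl2 l = l := by
      rw [linv, List.getD_eq_getElem?_getD, List.getElem?_eq_none (by simpa [invl2] using hl),
        Option.getD_none]
    have h2 : letters2.getD l 26 = 26 := by
      rw [List.getD_eq_getElem?_getD, List.getElem?_eq_none (by simpa [letters2_eq] using hl),
        Option.getD_none]
    have h3 : e1 a b 26 = 1 := by
      rw [e1, List.getD_eq_getElem?_getD, List.getElem?_eq_none (by rw [gen_len]),
        Option.getD_none, evalW_nil]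
    rw [h1, e2, h2, h3, inv_one]

theorem rel2 (h : Rels a b) : ∀ w ∈ relWords2, evalW (e2 a b) w = 1 := by
  intro w hw
  obtain ⟨i, hi, rfl⟩ := List.getElem_of_mem hw
  have hj : i < ops2.length := ops2_len ▸ hi
  have hmem : (relWords2[i], ops2[i]) ∈ List.zip relWords2 ops2 := by
    refine List.mem_iff_getElem.mpr ⟨i, by simpa using ⟨hi, hj⟩, ?_⟩
    exact List.getElem_zip
  have hc := relCheck_sound (e := e1 a b) (H := ⊥)
    ⟨e1_inv h, rel1 h, fun w hw => by simp at hw⟩ (List.all_eq_true.mp rel2_ok _ hmem)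
  rw [← hc]
  simp only [evalW, List.map_map, Function.comp_def]
  rfl

/-- subgroup generated by letters below `n` -/
def gen (e : ℕ → G) (n : ℕ) : Subgroup G := Subgroup.closure {g | ∃ l < n, e l = g}

/-- one level of the bound -/
theorem step {D : Dat} {n m : ℕ} {e : ℕ → G} {H : Subgroup G}
    (hD : Hyp D e H) (hlt : ∀ l, l < D.L → linv D.iv l < D.L)
    (hc : Hyp D e H → ∃ w : ℕ → G, w 0 = 1 ∧
      ∀ i, i < n → ∀ l, l < D.L → w i * e l * (w (tget D.cols i l))⁻¹ ∈ H)
    (hl : ltOK D.L n D.iv D.cols = true) (hn : 0 < n)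
    (hm : Finite H ∧ Nat.card H ≤ m) :
    Finite (gen e D.L) ∧ Nat.card (gen e D.L) ≤ n * m := by
  obtain ⟨w, hw0, hw⟩ := hc hD
  have := hm.1
  exact card_le_of_cosets (w := w) (cosets_exhaust (e := e) (iv := D.iv) le_rfl
    (fun l hll => ⟨hlt l hll, hD.invl l⟩) (ltOK_sound hl) hn hw0 hw) hm.2

theorem of_close {D : Dat} {n : ℕ} {tree : List ℕ} {bs : List Blk} {e : ℕ → G} {H : Subgroup G}
    (hc : closeCheck D n tree bs = true) (hD : Hyp D e H) : ∃ w : ℕ → G, w 0 = 1 ∧
      ∀ i, i < n → ∀ l, l < D.L → w i * e l * (w (tget D.cols i l))⁻¹ ∈ H := by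
  obtain ⟨-, w, hw0, -, hw⟩ := closeCheck_sound hD (E := ⊤) (fun _ _ => Subgroup.mem_top _) hc
  exact ⟨w, hw0, hw⟩

theorem of_segs {e : ℕ → G} {H : Subgroup G} (hD : Hyp dat1 e H) : ∃ w : ℕ → G, w 0 = 1 ∧
    ∀ i, i < 1771 → ∀ l, l < dat1.L → w i * e l * (w (tget dat1.cols i l))⁻¹ ∈ H := by
  obtain ⟨w, hw0, -, hw⟩ := closeSegs_sound (n := 1771) (K0 := known0) (K1 := known3)
    (tree := tree1) hD (E := ⊤) (fun _ _ => Subgroup.mem_top _)
    tree1_ok segs1_ok full1
  exact ⟨w, hw0, hw⟩

theorem bound2 (h : Rels a b) :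
    Finite (gen (e2 a b) 4) ∧ Nat.card (gen (e2 a b) 4) ≤ 5760 * 3 := by
  have h3 : e2 a b 0 ^ 3 = 1 := by
    simpa [evalW, pow_succ, mul_assoc] using rel2 h _ cube_ok
  have hfin : IsOfFinOrder (e2 a b 0) := isOfFinOrder_iff_pow_eq_one.mpr ⟨3, by norm_num, h3⟩
  refine step (D := dat2) (H := Subgroup.zpowers (e2 a b 0)) ⟨e2_inv h, rel2 h, ?_⟩ (fun l hl => ?_)
    (of_close close2) lt2 (by norm_num) ⟨?_, ?_⟩
  · intro w hw
    rw [show w = [0] by simpa [dat2] using hw]
    simp [evalW]
  · exact Nat.le_of_ble_eq_true (by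
      have := List.all_eq_true.mp invl2_ok l (List.mem_range.mpr hl)
      simp only [Bool.and_eq_true] at this
      exact this.1)
  · exact (finite_zpowers.mpr hfin).to_subtype
  · rw [Nat.card_zpowers]
    exact orderOf_le_of_pow_eq_one (by norm_num) h3

theorem bound1 (h : Rels a b) :
    Finite (gen (e1 a b) 26) ∧ Nat.card (gen (e1 a b) 26) ≤ 1771 * (5760 * 3) := by
  refine step (D := dat1) (H := gen (e2 a b) 4) ⟨e1_inv h, rel1 h, ?_⟩ (fun l hl => ?_)
    of_segs lt1 (by norm_num) (bound2 h)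
  · intro w hw
    simp only [dat1, List.mem_cons, List.not_mem_nil, or_false] at hw
    rcases hw with rfl | rfl
    · exact Subgroup.subset_closure ⟨0, by norm_num, by simp [e2, letters2_eq, evalW]⟩
    · exact Subgroup.subset_closure ⟨2, by norm_num, by simp [e2, letters2_eq, evalW]⟩
  · exact Nat.le_of_ble_eq_true (by
      have := List.all_eq_true.mp invl1_ok l (List.mem_range.mpr hl)
      simp only [Bool.and_eq_true] at this
      exact this.1)

/-- the order bound -/
theorem bound (h : Rels a b) :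
    Finite (Subgroup.closure {a, b}) ∧ Nat.card (Subgroup.closure {a, b}) ≤ 3 * 244823040 := by
  have hst := step (D := dat0) (H := gen (e1 a b) 26) (n := 24)
    (m := 1771 * (5760 * 3)) ⟨e0_inv h, h, ?_⟩ (fun l (hl : l < 3) => by
      interval_cases l <;> decide) (of_close close0) lt0 (by norm_num) (bound1 h)
  · have he : gen (e0 a b) 3 = Subgroup.closure {a, b} := by
      refine le_antisymm ((Subgroup.closure_le _).mpr ?_) ((Subgroup.closure_le _).mpr ?_)
      · rintro _ ⟨l, hl, rfl⟩
        interval_cases l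
        · exact Subgroup.subset_closure (by simp [e0])
        · exact Subgroup.subset_closure (by simp [e0])
        · exact Subgroup.inv_mem _ (Subgroup.subset_closure (by simp))
      · rintro g (rfl | rfl)
        · exact Subgroup.subset_closure ⟨0, by norm_num, rfl⟩
        · exact Subgroup.subset_closure ⟨1, by norm_num, rfl⟩
    rw [show dat0.L = 3 from rfl, he] at hst
    exact ⟨hst.1, hst.2.trans (by norm_num)⟩
  · intro w hw
    change w ∈ genWords1 at hw
    obtain ⟨l, hl, rfl⟩ := List.getElem_of_mem hw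
    refine Subgroup.subset_closure ⟨l, gen_len ▸ hl, ?_⟩
    rw [e1, List.getD_eq_getElem _ _ hl]

end Cfsg.Agent.H45.J4M24
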