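import Cfsg.Agent.H45.CosetDerived
import Cfsg.Agent.H45.J4M24Data

/-!
Kernel checks of the tables for the presentation on `x, y`.
-/

set_option autoImplicit false
set_option maxRecDepth 100000
set_option Elab.async false

namespace Cfsg.Agent.H45.J4M24

/-- letters and their inverses on level zero -/
def invl0 : List ℕ := [0, 2, 1]

/-- letters and their inverses on level two -/
def invl2 : List ℕ := [1, 0, 3, 2]

/-- top level data -/
def dat0 : Dat := ⟨3, invl0, cols0, relWords0, genWords1⟩

/-- middle level data -/
def dat1 : Dat := ⟨26, invl1, cols1, relWords1, [[6], [8]]⟩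

/-- bottom level data -/
def dat2 : Dat := ⟨4, invl2, cols2, relWords2, [[0]]⟩

/-- free reduction -/
def redW (iv : List ℕ) : List ℕ → List ℕ
  | [] => []
  | x :: w => match redW iv w with
    | [] => [x]
    | y :: t => bif Nat.beq (linv iv x) y then t else x :: y :: t

/-- all entries are in range and inverted by the inverse column -/
noncomputable def ltOK (L n : ℕ) (iv cols : List ℕ) : Bool :=
  (List.range L).all fun l => colOK (cols.getD l 0) (cols.getD (linv iv l) 0) n n

theorem ltOK_sound {L n : ℕ} {iv cols : List ℕ} (h : ltOK L n iv cols = true) :
    ∀ l, l < L → ∀ i, i < n → tget cols i l < n :=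
  fun _ hl i hi => (colOK_sound (List.all_eq_true.mp h _ (List.mem_range.mpr hl)) i hi).1

theorem close0 : closeCheck dat0 24 tree0 blks0 = true := by decide +kernel
theorem lt0 : ltOK 3 24 invl0 cols0 = true := by decide +kernel
theorem lt1 : ltOK 26 1771 invl1 cols1 = true := by decide +kernel

theorem invl1_ok : ((List.range 26).all fun l => Nat.blt (linv invl1 l) 26 &&
    (redW invl0 (winv invl0 (genWords1.getD l [])) ==
      redW invl0 (genWords1.getD (linv invl1 l) []))) = true := by decide +kernel

theorem invl1_len : invl1.length = 26 := by decide +kernel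

theorem gen_len : genWords1.length = 26 := by decide +kernel

theorem rel1_ok : ((List.zip relWords1 justs1).all fun p =>
    redW invl0 (expandW genWords1 p.1) ==
      redW invl0 (p.2.1 ++ relWords0.getD p.2.2 [] ++ winv invl0 p.2.1)) = true := by decide +kernel

theorem just_len : justs1.length = relWords1.length := by decide +kernel

theorem invl2_ok : ((List.range 4).all fun l => Nat.blt (linv invl2 l) 4 &&
    (linv invl1 (letters2.getD l 26) == letters2.getD (linv invl2 l) 26)) = true := by decide +kernel

theorem ops2_len : ops2.length = relWords2.length := by decide +kernel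

theorem letters2_eq : letters2 = [6, 7, 8, 9] := by decide +kernel

theorem cube_ok : [0, 0, 0] ∈ relWords2 := by decide +kernel

end Cfsg.Agent.H45.J4M24
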