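import Cfsg.Agent.H45.CosetCheck
import Mathlib

/-!
Square matrices over the field with two elements packed into one natural number.
-/

set_option autoImplicit false

namespace Cfsg.Agent.H45.J4Mat

/-- bit as an element of the field with two elements -/
def bz (b : Bool) : ZMod 2 := if b then 1 else 0

theorem bz_and (a b : Bool) : bz (a && b) = bz a * bz b := by
  cases a <;> cases b <;> decide

theorem bz_xor (a b : Bool) : bz (a ^^ b) = bz a + bz b := by
  cases a <;> cases b <;> decide

/-- the matrix of a packed number -/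
def toMat (d n : ℕ) : Matrix (Fin d) (Fin d) (ZMod 2) :=
  fun i j => bz (n.testBit (d * i + j))

/-- one bit in the first position of each of `m` slots of width `d` -/
def maskS (d : ℕ) : ℕ → ℕ
  | 0 => 0
  | m + 1 => 1 + 2 ^ d * maskS d m

theorem and_split (k a b : ℕ) :
    a &&& b = (a % 2 ^ k &&& b % 2 ^ k) + 2 ^ k * (a / 2 ^ k &&& b / 2 ^ k) := by
  rw [← Nat.and_mod_two_pow, ← Nat.and_div_two_pow, Nat.mod_add_div]

theorem testBit_spread {d : ℕ} (hd : 0 < d) : ∀ (m A b i j : ℕ), b < 2 ^ d → j < d →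
    ((A &&& maskS d m) * b).testBit (d * i + j) =
      ((decide (i < m) && A.testBit (d * i)) && b.testBit j) := by
  intro m
  induction m with
  | zero => intros; simp [maskS]
  | succ m ih =>
    intro A b i j hb hj
    have h2 : 2 ≤ 2 ^ d := by
      calc 2 = 2 ^ 1 := rfl
        _ ≤ 2 ^ d := Nat.pow_le_pow_right (by norm_num) hd
    have h1 : (1 + 2 ^ d * maskS d m) % 2 ^ d = 1 := by
      rw [Nat.add_mul_mod_self_left, Nat.mod_eq_of_lt (by omega)]
    have h3 : (1 + 2 ^ d * maskS d m) / 2 ^ d = maskS d m := by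
      rw [Nat.add_mul_div_left _ _ (by omega), Nat.div_eq_of_lt (by omega), zero_add]
    rw [maskS, and_split d, h1, h3, Nat.and_one_is_mod, add_mul, mul_assoc, add_comm]
    have ha : A % 2 ^ d % 2 = (if A.testBit 0 then 1 else 0) := by
      rw [Nat.mod_mod_of_dvd A (dvd_pow_self 2 hd.ne'), Nat.testBit_zero]
      rcases Nat.mod_two_eq_zero_or_one A with h | h <;> simp [h]
    have hlt : A % 2 ^ d % 2 * b < 2 ^ d := by
      rw [ha]
      split <;> simp [hb, Nat.two_pow_pos]
    rw [Nat.testBit_two_pow_mul_add _ hlt]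
    cases i with
    | zero =>
      rw [if_pos (by simpa using hj), ha]
      cases A.testBit 0 <;> simp
    | succ i =>
      rw [if_neg (by rw [Nat.mul_succ]; omega),
        show d * (i + 1) + j - d = d * i + j by rw [Nat.mul_succ]; omega, ih _ _ _ _ hb hj,
        Nat.testBit_div_two_pow, show d * i + d = d * (i + 1) by rw [Nat.mul_succ]]
      simp

open Cfsg.Agent.H45 (force force_eq)

/-- sum of the products of the first `n` columns of `A` with rows of `B` -/
noncomputable def mulAux (d M A B : ℕ) : ℕ → ℕ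
  | 0 => 0
  | k + 1 => mulAux d M A B k ^^^ (((A >>> k) &&& M) * ((B >>> (d * k)) % 2 ^ d))

/-- product of packed matrices -/
noncomputable def mulN (d A B : ℕ) : ℕ :=
  force A fun a => force B fun b => force (maskS d d) fun M => mulAux d M a b d

theorem testBit_mulAux {d : ℕ} (A B : ℕ) (i j : Fin d) : ∀ n, n ≤ d →
    bz ((mulAux d (maskS d d) A B n).testBit (d * i + j)) =
      ∑ k ∈ Finset.range n, bz (A.testBit (d * i + k)) * bz (B.testBit (d * k + j)) := by
  intro n
  induction n with
  | zero => intro _; simp [mulAux, bz]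
  | succ n ih =>
    intro hn
    rw [Finset.sum_range_succ, ← ih (by omega), mulAux, Nat.testBit_xor, bz_xor,
      testBit_spread (i.pos) _ _ _ _ _ (Nat.mod_lt _ (Nat.two_pow_pos d)) j.isLt]
    simp [bz_and, Nat.testBit_mod_two_pow, Nat.add_comm]

theorem toMat_mulN (d A B : ℕ) : toMat d (mulN d A B) = toMat d A * toMat d B := by
  ext i j
  simp only [mulN, force_eq]
  rw [Matrix.mul_apply]
  change bz _ = _
  rw [testBit_mulAux A B i j d le_rfl, ← Fin.sum_univ_eq_sum_range (fun k => bz (A.testBit (d * i + k)) * bz (B.testBit (d * k + j)))]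
  rfl

/-- the packed identity -/
def oneN (d : ℕ) : ℕ → ℕ
  | 0 => 0
  | m + 1 => 1 + 2 ^ (d + 1) * oneN d m

theorem testBit_oneN (d : ℕ) : ∀ m i, (oneN d m).testBit i = decide (∃ k < m, i = (d + 1) * k) := by
  intro m
  induction m with
  | zero => simp [oneN]
  | succ m ih =>
    intro i
    have h1 : 1 < 2 ^ (d + 1) := Nat.one_lt_two_pow (by omega)
    rw [oneN, add_comm, Nat.testBit_two_pow_mul_add _ h1, Bool.eq_iff_iff]
    by_cases hi : i < d + 1
    · rw [if_pos hi, decide_eq_true_eq, Nat.testBit_one_eq_true_iff_self_eq_zero]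
      constructor
      · intro h; exact ⟨0, by omega, by simpa using h⟩
      · rintro ⟨k, -, rfl⟩
        rcases k.eq_zero_or_pos with rfl | hk
        · simp
        · exfalso; have := Nat.le_mul_of_pos_right (d + 1) hk; omega
    · rw [if_neg hi, ih, decide_eq_true_eq, decide_eq_true_eq]
      constructor
      · rintro ⟨k, hk, h⟩
        exact ⟨k + 1, by omega, by rw [Nat.mul_succ]; omega⟩
      · rintro ⟨k, hk, h⟩
        rcases k with _ | k
        · omega
        · exact ⟨k, by omega, by rw [Nat.mul_succ] at h; omega⟩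

theorem toMat_oneN (d : ℕ) : toMat d (oneN d d) = 1 := by
  ext i j
  change bz _ = _
  rw [testBit_oneN, Matrix.one_apply]
  by_cases h : i = j
  · subst h
    rw [if_pos rfl, decide_eq_true ⟨(i : ℕ), i.isLt, by rw [Nat.succ_mul]⟩]
    rfl
  · rw [if_neg h, decide_eq_false]
    · rfl
    · rintro ⟨k, hk, he⟩
      have hij : (i : ℕ) ≠ j := fun he => h (Fin.ext he)
      have hi := i.isLt; have hj := j.isLt
      rcases lt_trichotomy k i with hlt | heq | hgt
      · have := Nat.mul_le_mul_left d hlt
        rw [Nat.succ_mul] at he; rw [Nat.mul_succ] at this; omega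
      · subst heq; rw [Nat.succ_mul] at he; omega
      · have := Nat.mul_le_mul_left d hgt
        rw [Nat.succ_mul] at he; rw [Nat.mul_succ] at this; omega

/-- powers -/
noncomputable def powN (d A : ℕ) : ℕ → ℕ
  | 0 => oneN d d
  | k + 1 => mulN d (powN d A k) A

/-- `n` packs the matrix `m` -/
def Rep (d : ℕ) (m : Matrix (Fin d) (Fin d) (ZMod 2)) (n : ℕ) : Prop := toMat d n = m

theorem Rep.lit (d n : ℕ) : Rep d (toMat d n) n := rfl

theorem Rep.mul {d : ℕ} {a b : Matrix (Fin d) (Fin d) (ZMod 2)} {A B : ℕ} (ha : Rep d a A)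
    (hb : Rep d b B) : Rep d (a * b) (mulN d A B) := by
  unfold Rep at *
  rw [toMat_mulN, ha, hb]

theorem Rep.pow {d : ℕ} {a : Matrix (Fin d) (Fin d) (ZMod 2)} {A : ℕ} (ha : Rep d a A) :
    ∀ k : ℕ, Rep d (a ^ k) (powN d A k) := by
  intro k
  induction k with
  | zero => exact toMat_oneN d
  | succ k ih => rw [pow_succ]; exact ih.mul ha

theorem Rep.eq_one {d : ℕ} {m : Matrix (Fin d) (Fin d) (ZMod 2)} {n : ℕ} (h : Rep d m n)
    (hn : Nat.beq n (oneN d d) = true) : m = 1 := by
  unfold Rep at h
  rw [← h, Nat.eq_of_beq_eq_true hn, toMat_oneN]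

theorem toMat_powN (d A k : ℕ) : toMat d (powN d A k) = toMat d A ^ k := (Rep.lit d A).pow k

end Cfsg.Agent.H45.J4Mat
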