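import Cfsg.Agent.H45.SuzPres
import Cfsg.Agent.H45.SuzI1782
import Cfsg.Agent.H45.SuzExtra
import Cfsg.Agent.H45.SuzJ416
import Cfsg.Agent.H45.SuzJ280
import Cfsg.Agent.H45.SuzJ2160

/-!
The presented Suzuki group: index 1782, suborbits, order and simplicity.
-/

set_option autoImplicit false
set_option Elab.async false

namespace Cfsg.Agent.H45.SuzMain

open Cfsg.Spor

theorem R_eq : SuzPres.pres.R = SuzI1782.relWords := by decide +kernel

theorem rl : SuzPres.pres.gl.length = 7 := rfl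

theorem close_ok : closeCheck ⟨SuzPres.pres.gl.length, List.range SuzPres.pres.gl.length, SuzI1782.cols, SuzPres.pres.R,
    SuzI1782.subWords⟩ 1782 SuzI1782.tree SuzI1782.blks = true := by
  rw [R_eq, rl, ← SuzI1782.invl_eq]; exact SuzI1782.close_ok

theorem perm_ok :
    permCheck SuzPres.pres.gl.length 1782 (List.range SuzPres.pres.gl.length) SuzI1782.cols SuzPres.pres.R = true := by
  rw [R_eq, rl, ← SuzI1782.invl_eq]; exact SuzI1782.perm_ok

/-- the subgroup `⟨a, …, f⟩` -/
abbrev H : Subgroup SuzPres.pres.Gp := SuzPres.pres.wsub SuzI1782.subWords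

theorem subWords_lt : ∀ g ∈ SuzI1782.subWords, ∀ l ∈ g, l < SuzPres.pres.gl.length := by
  rw [rl]; decide

theorem index_facts : ∃ φ : SuzPres.pres.Gp →* Equiv.Perm (Fin 1782), Act (permCheck_PT perm_ok) SuzPres.pres.e φ ∧
    ∃ F : SuzPres.pres.Gp ⧸ H ≃ Fin 1782, ∀ g : SuzPres.pres.Gp, ∀ x : SuzPres.pres.Gp ⧸ H, F (g • x) = φ g (F x) :=
  let ⟨φ, hA, F, _, hF⟩ := SuzPres.ok.index (by norm_num) close_ok perm_ok SuzI1782.fix_ok
  ⟨φ, hA, F, hF⟩

theorem H_index : H.index = 1782 := by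
  obtain ⟨φ, -, F, -⟩ := index_facts
  exact index_eq_of_equiv F

theorem suborbits : ∃ q₁ q₂ : SuzPres.pres.Gp ⧸ H,
    (MulAction.orbit H q₁).ncard = 416 ∧ (MulAction.orbit H q₂).ncard = 1365 := by
  obtain ⟨φ, hA, F, hF⟩ := index_facts
  obtain ⟨q₁, -, h1⟩ := orbit_ncard hA subWords_lt F hF SuzExtra.orb416_ok
  obtain ⟨q₂, -, h2⟩ := orbit_ncard hA subWords_lt F hF SuzExtra.orb1365_ok
  exact ⟨q₁, q₂, h1, h2⟩

theorem sub_abcd : Finite (SuzPres.pres.sub [0, 1, 2, 3]) ∧ Nat.card (SuzPres.pres.sub [0, 1, 2, 3]) ≤ 2160 := by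
  have := SuzPres.ok.bound (D := SuzJ2160.dat) (ls := [0, 1, 2, 3]) (ms := []) (m := 1) rfl
    SuzJ2160.invl_eq (by decide +kernel) (by decide +kernel)
    (ltCheck_sound SuzJ2160.lt_ok) (by norm_num) SuzJ2160.close_ok Pres.sub_nil_card
  simpa using this

theorem sub_abcde :
    Finite (SuzPres.pres.sub [0, 1, 2, 3, 4]) ∧ Nat.card (SuzPres.pres.sub [0, 1, 2, 3, 4]) ≤ 604800 := by
  have := SuzPres.ok.bound (D := SuzJ280.dat) (ls := [0, 1, 2, 3, 4]) (ms := [0, 1, 2, 3]) (m := 2160) rfl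
    SuzJ280.invl_eq (by decide +kernel) (by decide +kernel)
    (ltCheck_sound SuzJ280.lt_ok) (by norm_num) SuzJ280.close_ok sub_abcd
  simpa using this

theorem sub_abcdef :
    Finite (SuzPres.pres.sub [0, 1, 2, 3, 4, 5]) ∧ Nat.card (SuzPres.pres.sub [0, 1, 2, 3, 4, 5]) ≤ 251596800 := by
  have := SuzPres.ok.bound (D := SuzJ416.dat) (ls := [0, 1, 2, 3, 4, 5]) (ms := [0, 1, 2, 3, 4]) (m := 604800) rfl
    SuzJ416.invl_eq (by decide +kernel) (by decide +kernel)
    (ltCheck_sound SuzJ416.lt_ok) (by norm_num) SuzJ416.close_ok sub_abcde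
  simpa using this

theorem bound_all : Finite SuzPres.pres.Gp ∧ Nat.card SuzPres.pres.Gp ≤ 448345497600 := by
  have := SuzPres.ok.bound (D := SuzI1782.dat) (ls := List.range 7) (ms := [0, 1, 2, 3, 4, 5]) (m := 251596800) rfl
    SuzI1782.invl_eq (by decide +kernel) (by decide +kernel)
    (permCheck_lt SuzI1782.perm_ok) (by norm_num) SuzI1782.close_ok sub_abcdef
  rw [← rl, SuzPres.ok.sub_range] at this
  obtain ⟨hfin, hle⟩ := this
  have : Finite SuzPres.pres.Gp := Finite.of_equiv _ Subgroup.topEquiv.toEquiv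
  refine ⟨this, ?_⟩
  rw [Nat.card_congr Subgroup.topEquiv.toEquiv] at hle
  simpa using hle

theorem order_facts : Finite SuzPres.pres.Gp ∧ Nat.card SuzPres.pres.Gp = 448345497600 ∧
    ∃ φ : SuzPres.pres.Gp →* Equiv.Perm (Fin 1782), Act (permCheck_PT perm_ok) SuzPres.pres.e φ ∧
      Function.Injective φ ∧
      ∃ F : SuzPres.pres.Gp ⧸ H ≃ Fin 1782, ∀ g : SuzPres.pres.Gp, ∀ x : SuzPres.pres.Gp ⧸ H, F (g • x) = φ g (F x) := by
  obtain ⟨φ, hA, hF⟩ := index_facts
  have := bound_all.1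
  obtain ⟨hc, hinj⟩ :=
    card_eq_of_chain hA bound_all.2 SuzExtra.chain_ok SuzExtra.chain_prod
  exact ⟨this, hc, φ, hA, hinj, hF⟩

theorem block_sizes {B : Set (Fin 1782)} (φ : SuzPres.pres.Gp →* Equiv.Perm (Fin 1782))
    (hA : Act (permCheck_PT perm_ok) SuzPres.pres.e φ) (hB : ∀ h ∈ H, ∀ b ∈ B, φ h b ∈ B)
    (h0 : (0 : Fin 1782) ∈ B) (hdvd : B.ncard ∣ 1782) : B.ncard = 1 ∨ B.ncard = 1782 := by
  let X : Subgroup (Equiv.Perm (Fin 1782)) := H.map φ
  have hX : X = Subgroup.closure {y | ∃ g ∈ SuzI1782.subWords,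
      evalW (sig (permCheck_PT perm_ok)) g = y} := by
    change (Pres.wsub SuzPres.pres SuzI1782.subWords).map φ = _
    rw [Pres.wsub, MonoidHom.map_closure]
    congr 1
    ext y
    constructor
    · rintro ⟨_, ⟨g, hg, rfl⟩, rfl⟩
      exact ⟨g, hg, (hA.evalW g (subWords_lt g hg)).symm⟩
    · rintro ⟨g, hg, rfl⟩
      exact ⟨_, ⟨g, hg, rfl⟩, hA.evalW g (subWords_lt g hg)⟩
  obtain ⟨h1, e1⟩ := orbExact_sound (permCheck_PT perm_ok) subWords_lt SuzExtra.orb416_ok
  obtain ⟨h2, e2⟩ := orbExact_sound (permCheck_PT perm_ok) subWords_lt SuzExtra.orb1365_ok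
  rw [← hX] at e1 e2
  generalize (⟨44, h1⟩ : Fin 1782) = p1 at e1
  generalize (⟨1, h2⟩ : Fin 1782) = p2 at e2
  have hfix : ∀ y ∈ X, y (0 : Fin 1782) = 0 := by
    rintro _ ⟨h, hh, rfl⟩
    exact fixZero_sound hA (by norm_num) SuzI1782.fix_ok le_rfl hh
  have hsub : ∀ p ∈ B, MulAction.orbit X p ⊆ B := by
    rintro p hp _ ⟨⟨_, h, hh, rfl⟩, rfl⟩
    exact hB h hh p hp
  have d0 : ∀ p : Fin 1782, (MulAction.orbit X p).ncard ≠ 1 →
      (0 : Fin 1782) ∉ MulAction.orbit X p := by
    intro p hp h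
    apply hp
    rw [← MulAction.orbit_eq_iff.mpr h, Set.ncard_eq_one]
    exact ⟨0, Set.eq_singleton_iff_unique_mem.mpr ⟨MulAction.mem_orbit_self _,
      fun _ ⟨⟨y, hy⟩, hz⟩ => hz ▸ hfix y hy⟩⟩
  have dis : Disjoint (MulAction.orbit X p1) (MulAction.orbit X p2) := by
    rw [Set.disjoint_left]
    intro z hz1 hz2
    rw [← MulAction.orbit_eq_iff.mpr hz1, MulAction.orbit_eq_iff.mpr hz2] at e1
    omega
  have hu : ({0} ∪ MulAction.orbit X p1 ∪ MulAction.orbit X p2 : Set (Fin 1782)) = Set.univ := by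
    refine Set.eq_of_subset_of_ncard_le (Set.subset_univ _) ?_ (Set.toFinite _)
    have q1 := d0 p1 (by rw [e1]; norm_num)
    have q2 := d0 p2 (by rw [e2]; norm_num)
    rw [Set.ncard_univ, Nat.card_fin,
      Set.ncard_union_eq (Set.disjoint_union_left.mpr ⟨Set.disjoint_singleton_left.mpr q2, dis⟩),
      Set.ncard_union_eq (Set.disjoint_singleton_left.mpr q1), Set.ncard_singleton, e1, e2]
  by_cases hb1 : ∃ z ∈ MulAction.orbit X p1, z ∈ B <;>
    by_cases hb2 : ∃ z ∈ MulAction.orbit X p2, z ∈ B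
  · right
    have : B = Set.univ := by
      refine Set.eq_univ_of_univ_subset (hu ▸ ?_)
      obtain ⟨z1, hz1, hz1B⟩ := hb1
      obtain ⟨z2, hz2, hz2B⟩ := hb2
      refine Set.union_subset (Set.union_subset (Set.singleton_subset_iff.mpr h0) ?_) ?_
      · rw [← MulAction.orbit_eq_iff.mpr hz1]; exact hsub z1 hz1B
      · rw [← MulAction.orbit_eq_iff.mpr hz2]; exact hsub z2 hz2B
    simp [this]
  · exfalso
    have : B = {0} ∪ MulAction.orbit X p1 := by
      apply Set.Subset.antisymm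
      · intro z hz
        have : z ∈ ({0} ∪ MulAction.orbit X p1 ∪ MulAction.orbit X p2 : Set (Fin 1782)) :=
          hu ▸ Set.mem_univ z
        rcases this with h | h
        · exact h
        · exact absurd ⟨z, h, hz⟩ hb2
      · obtain ⟨z1, hz1, hz1B⟩ := hb1
        refine Set.union_subset (Set.singleton_subset_iff.mpr h0) ?_
        rw [← MulAction.orbit_eq_iff.mpr hz1]; exact hsub z1 hz1B
    rw [this, Set.ncard_union_eq (Set.disjoint_singleton_left.mpr (d0 p1 (by rw [e1]; norm_num))),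
      Set.ncard_singleton, e1] at hdvd
    norm_num at hdvd
  · exfalso
    have : B = {0} ∪ MulAction.orbit X p2 := by
      apply Set.Subset.antisymm
      · intro z hz
        have : z ∈ ({0} ∪ MulAction.orbit X p1 ∪ MulAction.orbit X p2 : Set (Fin 1782)) :=
          hu ▸ Set.mem_univ z
        rcases this with (h | h) | h
        · exact Or.inl h
        · exact absurd ⟨z, h, hz⟩ hb1
        · exact Or.inr h
      · obtain ⟨z2, hz2, hz2B⟩ := hb2
        refine Set.union_subset (Set.singleton_subset_iff.mpr h0) ?_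
        rw [← MulAction.orbit_eq_iff.mpr hz2]; exact hsub z2 hz2B
    rw [this, Set.ncard_union_eq (Set.disjoint_singleton_left.mpr (d0 p2 (by rw [e2]; norm_num))),
      Set.ncard_singleton, e2] at hdvd
    norm_num at hdvd
  · left
    rw [Set.ncard_eq_one]
    refine ⟨0, Set.eq_singleton_iff_unique_mem.mpr ⟨h0, fun z hz => ?_⟩⟩
    have : z ∈ ({0} ∪ MulAction.orbit X p1 ∪ MulAction.orbit X p2 : Set (Fin 1782)) :=
      hu ▸ Set.mem_univ z
    rcases this with (h | h) | h
    · exact h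
    · exact absurd ⟨z, h, hz⟩ hb1
    · exact absurd ⟨z, h, hz⟩ hb2

theorem evalW_replicate_word (e : ℕ → SuzPres.pres.Gp) (m : ℕ) (w : List ℕ) :
    evalW e (List.replicate m w).flatten = evalW e w ^ m := by
  induction m with
  | zero => simp [evalW]
  | succ m ih => rw [List.replicate_succ, List.flatten_cons, evalW_append, ih, pow_succ']

/-- first factor of `a` -/
def ya : List ℕ := [4, 5, 3, 6, 3, 5, 6, 5, 1, 2, 3, 6]

/-- second factor of `a` -/
def ya' : List ℕ := [6, 3, 2, 1, 5, 6, 5, 3, 6, 3, 5, 4, 0]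

/-- first factor of `d` -/
def yd : List ℕ :=
  [2, 4, 1, 4, 2, 0, 5, 4, 0, 2, 6, 2, 4, 2, 3, 1, 2, 1, 0, 6, 0, 3, 4, 0, 3, 4, 0]

/-- second factor of `d` -/
def yd' : List ℕ :=
  [0, 4, 3, 0, 4, 3, 0, 6, 0, 1, 2, 1, 3, 2, 4, 2, 6, 2, 0, 4, 5, 0, 2, 4, 1, 4, 2, 3]

/-- all factors have order dividing 11, and the two products are right -/
def wordChecks : List (List ℕ) :=
  [(List.replicate 11 ya).flatten, (List.replicate 11 ya').flatten,
    (List.replicate 11 yd).flatten, (List.replicate 11 yd').flatten, ya ++ ya' ++ [0], yd ++ yd' ++ [3]]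

/-- The check of one word. -/
noncomputable def wordOk (w : List ℕ) : Bool :=
  w.all (fun l => Nat.blt l SuzPres.pres.gl.length) && fixAll (w.map fun l => SuzI1782.cols.getD l 0) 1782

set_option maxRecDepth 100000 in
theorem wordCheck0 : wordOk (List.replicate 11 ya).flatten = true := by decide +kernel

set_option maxRecDepth 100000 in
theorem wordCheck1 : wordOk (List.replicate 11 ya').flatten = true := by decide +kernel

set_option maxRecDepth 100000 in
theorem wordCheck2 : wordOk (List.replicate 11 yd).flatten = true := by decide +kernel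

set_option maxRecDepth 100000 in
theorem wordCheck3 : wordOk (List.replicate 11 yd').flatten = true := by decide +kernel

set_option maxRecDepth 100000 in
theorem wordCheck4 : wordOk (ya ++ ya' ++ [0]) = true := by decide +kernel

set_option maxRecDepth 100000 in
theorem wordCheck5 : wordOk (yd ++ yd' ++ [3]) = true := by decide +kernel

theorem wordChecks_ok : (wordChecks.all fun w => w.all (fun l => Nat.blt l SuzPres.pres.gl.length) &&
    fixAll (w.map fun l => SuzI1782.cols.getD l 0) 1782) = true := by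
  show wordChecks.all wordOk = true
  simp only [wordChecks, List.all_cons, List.all_nil, wordCheck0, wordCheck1, wordCheck2, wordCheck3,
    wordCheck4, wordCheck5, Bool.and_true]

theorem isSimple : IsSimpleGroup SuzPres.pres.Gp := by
  obtain ⟨hfin, hcard, φ, hA, hinj, F, hF⟩ := order_facts
  have : Nontrivial SuzPres.pres.Gp := by
    rw [← Finite.one_lt_card_iff_nontrivial, hcard]; norm_num
  refine ⟨fun N hN => or_iff_not_imp_left.mpr fun hne => ?_⟩
  have hcop : Nat.Coprime 11 N.index := by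
    refine normal_index_coprime (k := 1) (by norm_num) (by norm_num) φ hinj ?_ H
      (fun h hh => fixZero_sound hA (by norm_num) SuzI1782.fix_ok le_rfl hh)
      (fun B h0 hB hd => block_sizes φ hA hB h0 hd) (by norm_num) (by rw [hcard]; norm_num) N hne
    intro i
    have hreach : ∀ j, ∃ g, φ g (F (QuotientGroup.mk (1 : SuzPres.pres.Gp))) = j := by
      intro j
      obtain ⟨g, hg⟩ := QuotientGroup.mk_surjective (F.symm j)
      refine ⟨g, ?_⟩
      rw [← hF, MulAction.Quotient.smul_coe, smul_eq_mul, mul_one, hg, Equiv.apply_symm_apply]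
    obtain ⟨g1, hg1⟩ := hreach i
    obtain ⟨g0, hg0⟩ := hreach ⟨0, by norm_num⟩
    refine ⟨g1 * g0⁻¹, ?_⟩
    rw [map_mul, Equiv.Perm.mul_apply, map_inv, Equiv.Perm.inv_def,
      (Equiv.symm_apply_eq _).mpr hg0.symm, hg1]
  have hw : ∀ w ∈ wordChecks, evalW SuzPres.pres.e w = 1 := fun w hw =>
    evalW_eq_one hA hinj ((List.all_eq_true.mp wordChecks_ok) w hw)
  simp only [wordChecks, List.forall_mem_cons, evalW_replicate_word, evalW_append] at hw
  obtain ⟨w1, w2, w3, w4, w5, w6, -⟩ := hw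
  have hgen : ∀ l, SuzPres.pres.e l * SuzPres.pres.e l = 1 := fun l => by
    conv_lhs => arg 1; rw [show SuzPres.pres.e l = (SuzPres.pres.e l)⁻¹ from eOf_inv SuzPres.ok.sq l]
    exact inv_mul_cancel _
  have hprod : ∀ {u v : SuzPres.pres.Gp} {l : ℕ}, u * v * evalW SuzPres.pres.e [l] = 1 → u ^ 11 = 1 → v ^ 11 = 1 →
      SuzPres.pres.e l ∈ N := by
    intro u v l h hu hv
    have h1 := N.mul_mem (pow_elem_mem hcop hu) (pow_elem_mem hcop hv)
    rw [eq_inv_of_mul_eq_one_left h] at h1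
    simpa [evalW] using h1
  have hedge : ∀ i j m, Odd m → (List.replicate m [i, j]).flatten ∈ SuzPres.pres.R → SuzPres.pres.e i ∈ N →
      SuzPres.pres.e j ∈ N := by
    intro i j m hm hw hi
    refine mem_of_odd_edge hm ?_ (hgen j) hi
    rw [← evalW_replicate]; exact SuzPres.ok.rel _ hw
  have ha : SuzPres.pres.e 0 ∈ N := hprod w5 w1 w2
  have hd : SuzPres.pres.e 3 ∈ N := hprod w6 w3 w4
  have hb := hedge 0 1 5 (by decide) (by decide +kernel) ha
  have hc := hedge 1 2 3 (by decide) (by decide +kernel) hb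
  have he := hedge 3 4 3 (by decide) (by decide +kernel) hd
  have hf := hedge 1 5 3 (by decide) (by decide +kernel) hb
  have hg := hedge 1 6 3 (by decide) (by decide +kernel) hb
  rw [eq_top_iff, ← SuzPres.ok.gen, Subgroup.closure_le]
  rintro _ ⟨l, hl, rfl⟩
  rw [rl] at hl
  interval_cases l <;> assumption

end Cfsg.Agent.H45.SuzMain
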