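import Cfsg.Prelude.Def_Spor_Suz
import Cfsg.Agent.H45.CosetGroup

/-!
The presentation of `Cfsg.Spor.Suz` as words.
-/

set_option autoImplicit false

namespace Cfsg.Agent.H45.SuzPres

open Cfsg.Spor

/-- the presentation as words in the letters -/
def pres : Pres Suz.Gen where
  edges := Suz.edges
  extra := Suz.extra
  gl := [.a, .b, .c, .d, .e, .f, .g]
  Rc := [
  [0, 0],
  [0, 1, 0, 1, 0, 1, 0, 1, 0, 1],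
  [0, 2, 0, 2],
  [0, 3, 0, 3],
  [0, 4, 0, 4],
  [0, 5, 0, 5],
  [0, 6, 0, 6],
  [1, 1],
  [1, 2, 1, 2, 1, 2],
  [1, 3, 1, 3],
  [1, 4, 1, 4],
  [1, 5, 1, 5, 1, 5],
  [1, 6, 1, 6, 1, 6],
  [2, 2],
  [2, 3, 2, 3, 2, 3, 2, 3, 2, 3, 2, 3, 2, 3, 2, 3],
  [2, 4, 2, 4],
  [2, 5, 2, 5],
  [2, 6, 2, 6],
  [3, 3],
  [3, 4, 3, 4, 3, 4],
  [3, 5, 3, 5],
  [3, 6, 3, 6],
  [4, 4],
  [4, 5, 4, 5],
  [4, 6, 4, 6],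
  [5, 5],
  [5, 6, 5, 6, 5, 6, 5, 6],
  [6, 6]]
  Rx := [
  [0, 3, 2, 3, 2, 3, 2, 3, 2],
  [0, 6, 5, 6, 5],
  [0, 1, 2, 5, 0, 1, 2, 5, 0, 1, 2, 5, 0, 1, 2, 5, 0, 1, 2, 5],
  [1, 5, 6, 1, 5, 6, 1, 5, 6, 1, 5, 6, 1, 5, 6],
  [1, 2, 3, 2, 3, 1, 2, 3, 2, 3, 1, 2, 3, 2, 3, 1, 2, 3, 2, 3, 1, 2, 3, 2, 3, 4, 1, 2, 3, 2, 3, 1, 2, 3, 2, 3, 1, 2, 3, 2, 3, 1, 2, 3, 2, 3, 1, 2, 3, 2, 3, 4, 1, 2, 3, 2, 3, 1, 2, 3, 2, 3, 1, 2, 3, 2, 3, 1, 2, 3, 2, 3, 1, 2, 3, 2, 3, 4]]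

theorem ok : pres.OK where
  all x := by cases x <;> decide
  nodup := by decide
  check := by decide +kernel
  extra_eval G _ f hf := by
    simp [pres, Suz.extra, Suz.a, Suz.b, Suz.c, Suz.d, Suz.e, Suz.f, Suz.g, eOf, evalW, FreeGroup.lift_apply_of,
      mul_inv_rev, hf, pow_succ, pow_zero, mul_assoc]

end Cfsg.Agent.H45.SuzPres
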