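import Cfsg.Agent.H45.SuzMain
import Cfsg.Agent.H45.SuzI22880Lt
import Cfsg.Agent.H45.SuzI22880B
import Cfsg.Agent.H45.SuzK56
import Cfsg.Agent.H45.SuzK162
import Cfsg.Agent.H45.CosetCover

/-!
The subgroup `⟨a, b, c, d, f, g⟩` of the presented Suzuki group has index 22880.
-/

set_option autoImplicit false
set_option maxRecDepth 100000

namespace Cfsg.Agent.H45.SuzU4

open Cfsg.Spor

theorem sub_abcdf : Finite (SuzPres.pres.sub [0, 1, 2, 3, 5]) ∧
    Nat.card (SuzPres.pres.sub [0, 1, 2, 3, 5]) ≤ 120960 := by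
  have := SuzPres.ok.bound (D := SuzK56.dat) (ls := [0, 1, 2, 3, 5]) (ms := [0, 1, 2, 3])
    (m := 2160) rfl SuzK56.invl_eq (by decide +kernel) (by decide +kernel)
    (ltCheck_sound SuzK56.lt_ok) (by norm_num) SuzK56.close_ok SuzMain.sub_abcd
  simpa using this

theorem sub_abcdfg : Finite (SuzPres.pres.sub [0, 1, 2, 3, 5, 6]) ∧
    Nat.card (SuzPres.pres.sub [0, 1, 2, 3, 5, 6]) ≤ 19595520 := by
  have := SuzPres.ok.bound (D := SuzK162.dat) (ls := [0, 1, 2, 3, 5, 6]) (ms := [0, 1, 2, 3, 5])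
    (m := 120960) rfl SuzK162.invl_eq (by decide +kernel) (by decide +kernel)
    (ltCheck_sound SuzK162.lt_ok) (by norm_num) SuzK162.close_ok sub_abcdf
  simpa using this

/-- the subgroup `⟨a, b, c, d, f, g⟩` -/
abbrev H : Subgroup SuzPres.pres.Gp := SuzPres.pres.wsub SuzI22880.subWords

theorem H_le : H ≤ SuzPres.pres.sub [0, 1, 2, 3, 5, 6] := by
  refine (Subgroup.closure_le _).mpr ?_
  rintro _ ⟨w, hw, rfl⟩
  simp only [SuzI22880.subWords, List.mem_cons, List.not_mem_nil, or_false] at hw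
  rcases hw with rfl | rfl | rfl | rfl | rfl | rfl <;>
    · exact Subgroup.subset_closure ⟨_, by decide, (mul_one _).symm⟩

theorem H_index : H.index = 22880 := by
  obtain ⟨hfin, hle⟩ := sub_abcdfg
  obtain ⟨hG, hcard, -⟩ := SuzMain.order_facts
  obtain ⟨w, hw⟩ := SuzPres.ok.cover (D := SuzI22880.dat) (n := 22880) (K0 := SuzI22880.known0)
    (K1 := SuzI22880.known20) (tree := SuzI22880.tree) (segs := SuzI22880.segs) rfl
    SuzI22880.invl_eq (by decide +kernel) SuzI22880.tree_ok SuzI22880.segs_ok SuzI22880.full_ok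
    (ltCheck_sound SuzI22880.lt_ok) (by norm_num)
  refine index_eq_of_cover H (m := 19595520) hw ?_ (by norm_num) (by rw [hcard])
  exact le_trans (Nat.card_le_card_of_injective _ (Subgroup.inclusion_injective H_le)) hle

end Cfsg.Agent.H45.SuzU4
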